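import Cfsg.Agent.Lib.IA.Gen

/-! Double covers of `2⁴ : S₄` over `2^{1+4}_-` (generated data, helper10). -/

set_option autoImplicit false
set_option maxRecDepth 1000000
set_option maxHeartbeats 0

namespace Cfsg.Lib.L34A

open Cfsg.Lib.Calc Cfsg.Lib.Grp Cfsg.Lib.T2 Cfsg.Lib.T3

/-- relators of the extraspecial group -/
def relE : List W := [.mul (.l 1) (.l 1), .mul (.l 2) (.l 2), .mul (.l 3) (.l 3), .mul (.l 4) (.l 4), .mul (.l 5) (.l 5), .mul (.mul (.mul (.mul (.l 1) (.l 2)) (.inv (.l 1))) (.inv (.l 2))) (.l 5), .mul (.mul (.mul (.mul (.l 1) (.l 3)) (.inv (.l 1))) (.inv (.l 3))) (.l 5), .mul (.mul (.mul (.mul (.l 1) (.l 4)) (.inv (.l 1))) (.inv (.l 4))) (.l 5), .mul (.mul (.mul (.mul (.l 2) (.l 3)) (.inv (.l 2))) (.inv (.l 3))) (.l 5), .mul (.mul (.mul (.mul (.l 2) (.l 4)) (.inv (.l 2))) (.inv (.l 4))) (.l 5), .mul (.mul (.mul (.mul (.l 3) (.l 4)) (.inv (.l 3))) (.inv (.l 4))) (.l 5), .mul (.mul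 (.mul (.l 5) (.l 1)) (.inv (.l 5))) (.inv (.l 1)), .mul (.mul (.mul (.l 5) (.l 2)) (.inv (.l 5))) (.inv (.l 2)), .mul (.mul (.mul (.l 5) (.l 3)) (.inv (.l 5))) (.inv (.l 3)), .mul (.mul (.mul (.l 5) (.l 4)) (.inv (.l 5))) (.inv (.l 4))]

/-- the action of the transpositions -/
def relA : List W := [.mul (.mul (.mul (.l 6) (.l 1)) (.inv (.l 6))) (.inv (.l 2)), .mul (.mul (.mul (.l 6) (.l 2)) (.inv (.l 6))) (.inv (.l 1)), .mul (.mul (.mul (.l 6) (.l 3)) (.inv (.l 6))) (.inv (.l 3)), .mul (.mul (.mul (.l 6) (.l 4)) (.inv (.l 6))) (.inv (.l 4)), .mul (.mul (.mul (.l 7) (.l 1)) (.inv (.l 7))) (.inv (.l 1)), .mul (.mul (.mul (.l 7) (.l 2)) (.inv (.l 7))) (.inv (.l 3)), .mul (.mul (.mul (.l 7) (.l 3)) (.inv (.l 7))) (.inv (.l 2)), .mul (.mul (.mul (.l 7) (.l 4)) (.inv (.l 7))) (.inv (.l 4)), .mul (.mul (.mul (.l 8) (.l 1)) (.inv (.l 8))) (.inv (.l 1)), .mul (.mul (.mul (.l 8) (.l 2)) (.inv (.l 8))) (.inv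 (.l 2)), .mul (.mul (.mul (.l 8) (.l 3)) (.inv (.l 8))) (.inv (.l 4)), .mul (.mul (.mul (.l 8) (.l 4)) (.inv (.l 8))) (.inv (.l 3)), .mul (.mul (.mul (.l 6) (.l 5)) (.inv (.l 6))) (.inv (.l 5)), .mul (.mul (.mul (.l 7) (.l 5)) (.inv (.l 7))) (.inv (.l 5)), .mul (.mul (.mul (.l 8) (.l 5)) (.inv (.l 8))) (.inv (.l 5)), .mul (.mul (.mul (.mul (.mul (.l 6) (.l 7)) (.l 6)) (.inv (.l 7))) (.inv (.l 6))) (.inv (.l 7)), .mul (.mul (.mul (.mul (.mul (.l 7) (.l 8)) (.l 7)) (.inv (.l 8))) (.inv (.l 7))) (.inv (.l 8))]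

/-- inverse letters -/
def tcE_iv : ℕ := 172066848

/-- inverse letters -/
def tcE_labs : List W := [.l 0, .l 1, .l 2, .l 3, .l 4, .l 5]

def tcE_F : Tr := .leaf (nat_lit 0x2609f16c5f0f03f2f8bf1e87e1645e0f43e23c9d1505d2f0bd1cc7c1405c2389b0d03b2e4bb2289a0cc3a2dcba1c8790c0391a8780bc382d8b8148570b037138560ac36214951c075130550a0352d0b0244942ccac234932c8a8224921947112c5109c312bcab1b46f2b8a71a46e1144d0982d2a8a61244a094291fc77278961f46c2708b1ec6816848264871604725c861d8662d4a41d06414c440c8242c4a32408313c430b8232b4a2230821ac620a8222a4a12208119c6111841294a02108018c60108400842000000)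
def tcE_T : Tr := .leaf (nat_lit 0xffbbcdeb38bdab49ca307b9ac5a928398a418820)
def tcE_P : Tr := .node (.leaf (nat_lit 0x345b7200007320e1358004053252222100402304d4b42002033052221f00400304d6e000072e0c1358004042e461a19004022c0c134a004032c461a17004012a080b002092a2962002082a275e002072a255a002062006092900805280807230060518040927008042608051b006041002092500802240803130060222060b00208221f5000207221d4c002061604071f008031e06051b006030e02071d008011c060313006011a040b002071a1544002060c02051500800140403130060012020b00206))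
  (.leaf (nat_lit 0x1ff001ff001ff001ff001ff001ff001ff001ff001ff001ff001ff001ff001ff001ff001ff3e7e8378002053e735a37004033e715f8c004013e7e98000083c2c4582004053c6f4c33004043c6d5192004023a5f5d4e002053a662a29004033a5f8c0000838161b5c004053854222100404365b594a0020536642a2900401365b7c00008345b59420020434642a2700400))
def tcE_N_0 : Tr := .node (.node (.node (.node (.leaf (nat_lit 5309505))
  (.leaf (nat_lit 99)))
  (.node (.leaf (nat_lit 103525))
  (.leaf (nat_lit 5125))))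
  (.node (.node (.leaf (nat_lit 5376130))
  (.leaf (nat_lit 132)))
  (.leaf (nat_lit 1025))))
  (.node (.node (.node (.leaf (nat_lit 5375105))
  (.leaf (nat_lit 3075)))
  (.node (.leaf (nat_lit 33))
  (.leaf (nat_lit 0))))
  (.node (.node (.leaf (nat_lit 37925))
  (.leaf (nat_lit 165)))
  (.leaf (nat_lit 66))))
def tcE_N_1 : Tr := .node (.node (.node (.node (.leaf (nat_lit 5342305))
  (.leaf (nat_lit 99)))
  (.node (.leaf (nat_lit 136325))
  (.leaf (nat_lit 0))))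
  (.node (.node (.leaf (nat_lit 5377155))
  (.leaf (nat_lit 4100)))
  (.leaf (nat_lit 66))))
  (.node (.node (.node (.leaf (nat_lit 5343330))
  (.leaf (nat_lit 132)))
  (.leaf (nat_lit 33)))
  (.node (.node (.leaf (nat_lit 70725))
  (.leaf (nat_lit 165)))
  (.leaf (nat_lit 2050))))
def tcE_N : Tr := .node tcE_N_0
  tcE_N_1
noncomputable def tcE : TC :=
  ⟨[.l 0, .l 1, .l 2, .l 3, .l 4, .l 5],
    (nat_lit 5), (nat_lit 8), (nat_lit 172066848), (nat_lit 1), (nat_lit 32), (nat_lit 0), (nat_lit 32), (nat_lit 2), (nat_lit 27),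
    get (nat_lit 10) (nat_lit 0x400c0400c02010030080400c02010030080400c020100401004014050140501405), Tr.get tcE_N, get (nat_lit 20) (nat_lit 0x3ff003ff003ff003ff003ff003ff003ff003ff003ff003ff003ff003ff003ff003ff003ff003ff003ff0000e0000d0000c0000b0000a0000900008000070000600005),
    Tr.get3 tcE_F (nat_lit 20) (nat_lit 5), Tr.get3 tcE_T (nat_lit 5) (nat_lit 7), Tr.get tcE_P⟩

theorem tcE_head : tcE.headOK relE tcE_iv = true := by decide +kernel

theorem tcE_b0 : allFrom (nat_lit 0) (nat_lit 2) tcE.blockOK = true := by decide +kernel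

def tcE_Q5 : Tr := .leaf (nat_lit 0x9a9b8e8f847e85747f752b635f5b2362514d1b5e5045135a4c440b2a221a120a)
theorem tcE_f5_0 : allFrom (nat_lit 0) (nat_lit 32) (tcE.finOK (nat_lit 32) (Tr.get3 tcE_Q5 (nat_lit 8) (nat_lit 6)) (nat_lit 5)) = true := by
  decide +kernel

def tcE_Q4 : Tr := .leaf (nat_lit 0xa03d9239888233a12f3c6a605c58612193895d1938835911322e6b0920181008)
theorem tcE_f4_0 : allFrom (nat_lit 0) (nat_lit 32) (tcE.finOK (nat_lit 32) (Tr.get3 tcE_Q4 (nat_lit 8) (nat_lit 6)) (nat_lit 4)) = true := by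
  decide +kernel

def tcE_Q3 : Tr := .leaf (nat_lit 0x3f983b8c37997c783e2d68298d7d56694e4a4f3a17794b360f2c572807160e06)
theorem tcE_f3_0 : allFrom (nat_lit 0) (nat_lit 32) (tcE.finOK (nat_lit 32) (Tr.get3 tcE_Q3 (nat_lit 8) (nat_lit 6)) (nat_lit 3)) = true := by
  decide +kernel

def tcE_Q2 : Tr := .leaf (nat_lit 0x9e96908a9f359731726e66912773548b1f6f486755424334300d49261e050c04)
theorem tcE_f2_0 : allFrom (nat_lit 0) (nat_lit 32) (tcE.finOK (nat_lit 32) (Tr.get3 tcE_Q2 (nat_lit 8) (nat_lit 6)) (nat_lit 2)) = true := by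
  decide +kernel

def tcE_Q1 : Tr := .leaf (nat_lit 0x9c94959d86807a76706c64878125527b771d46716d154065534741241c140302)
theorem tcE_f1_0 : allFrom (nat_lit 0) (nat_lit 32) (tcE.finOK (nat_lit 32) (Tr.get3 tcE_Q1 (nat_lit 8) (nat_lit 6)) (nat_lit 1)) = true := by
  decide +kernel

theorem tcE_blocks : ∀ t < tcE.k, tcE.blockOK t = true :=
  (of_allFrom_append of_lt_zero tcE_b0)

/-- index 32 max 32 total 32 facts 81 | needed cosets 32 facts 81 steps 181 trivial 0 -/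
theorem tcE_index {G : Type*} [Group G] {γ : ℕ → G} (hL : Lab γ tcE_iv) (hr : ∀ t ∈ relE, t.ev γ = 1) {K : Subgroup G}
    (hK : ∀ t ∈ ([] : List W), t.ev γ ∈ K) :
    K.relIndex (genW γ [.l 1, .l 2, .l 3, .l 4, .l 5]) ≠ 0 ∧ K.relIndex (genW γ [.l 1, .l 2, .l 3, .l 4, .l 5]) ≤ 32 :=
  TC.relIndex_le (D := tcE) (gens := [1, 2, 3, 4, 5]) hL (List.forall_mem_cons.2 ⟨hL.zero_mem K, hK⟩) hr tcE_head tcE_blocks (by decide) (by decide)
   (List.forall_mem_cons.2 ⟨⟨_, (of_allFrom_append of_lt_zero tcE_f1_0)⟩,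
    List.forall_mem_cons.2 ⟨⟨_, (of_allFrom_append of_lt_zero tcE_f2_0)⟩,
    List.forall_mem_cons.2 ⟨⟨_, (of_allFrom_append of_lt_zero tcE_f3_0)⟩,
    List.forall_mem_cons.2 ⟨⟨_, (of_allFrom_append of_lt_zero tcE_f4_0)⟩,
    List.forall_mem_cons.2 ⟨⟨_, (of_allFrom_append of_lt_zero tcE_f5_0)⟩,
    fun _ h => absurd h List.not_mem_nil⟩⟩⟩⟩⟩)

theorem tcE_idx {G : Type*} [Group G] {γ : ℕ → G} (h0 : γ 0 = 1) (hr : ∀ t ∈ relE, t.ev γ = 1) {K : Subgroup G}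
    (hK : ∀ t ∈ ([] : List W), t.ev γ ∈ K) :
    K.relIndex (genW γ [.l 1, .l 2, .l 3, .l 4, .l 5]) ≠ 0 ∧ K.relIndex (genW γ [.l 1, .l 2, .l 3, .l 4, .l 5]) ≤ 32 := by
  have a := lab_of_rels h0 hr (iv := tcE_iv) (labs := tcE_labs) (by decide +kernel)
  have b := tcE_index a.1 a.2 (mems_fix (by decide +kernel) hK)
  rwa [genW_fix (by decide +kernel)] at b

theorem tcE_tb : TB relE [.l 1, .l 2, .l 3, .l 4, .l 5] 32 := fun _ _ _ h0 hr =>
  card_le_of_relIndex (N := 1) bot_le (tcE_idx h0 hr nil_all) card_bot_le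

/-- squares and commutator -/
def x00 : List W := [.mul (.l 6) (.l 6), .mul (.l 7) (.l 7), .mul (.l 8) (.l 8), .mul (.mul (.mul (.l 6) (.l 8)) (.inv (.l 6))) (.inv (.l 8))]

/-- all relators -/
def rel00 : List W := relE ++ relA ++ x00

/-- inverse letters -/
def tc00_iv : ℕ := 296335229793175584

/-- inverse letters -/
def tc00_labs : List W := [.l 0, .l 1, .l 2, .l 3, .l 4, .l 5, .l 6, .l 7, .l 8, .inv (.l 6), .inv (.l 7), .inv (.l 8)]

def tc00_F : Tr := .leaf (nat_lit 0x5dd163d557554f75d9172dcb725c971dc7715c570dc374d0d73cd5654cf62d8b6258961d876158560d8364c8d65d5115c5152d4b5254951d475154550d4354c0d5449745c9142d0b4250941d074150540d03453cf45cd0e5b9132ccb324c931cc7314c530cc334b4d32c8b2248921c872148520c832530f23b951538f12c4b1244911c471144510c4314acd142d705ad102c0b0240901c070140500c030528f033d2a3292f2bcaf23c8f1bc6f13c4f0bc2f5a50f2b8ae2388e1b86e1384e0b82e4a0ce4216d5a10d2b4ad2348d1b46d1344d0b42d51ced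3312731d2c2b0ac2308c1b06c1304c0b02c5990c2acab22c8b1ac6b12c4b0ac2b514eb2a8aa2288a1a86a1284a0a82a5910a39949518e92a4a9224891a469124490a429490c92a0a8220881a068120480a02850ce829ca721c8719c6711c4709c2758907298a621886198661184609826488c63152330d25294a52148519465114450942558505290a421084190641104409024504e428ca320c8318c6310c4308c2358103288a220882188621084208822500e2284a120481184611044108421480c1280a0200801806010040080204dcd44d8d24d4d0550ef4cccd548ec4c4cb540ea5bd094b8c8534e75b10652ce55a9044a4c4520e359d02498c259501510e158d00508e0484c000000)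
def tc00_T : Tr := .leaf (nat_lit 0xbdab49ca307b9ac5a928398a418820)
def tc00_P : Tr := .node (.node (.node (.leaf (nat_lit 0xc3a058020f02804070041e0511416004300a2082c008541443058010a0287e0b00213050f416004240a0001d04114120042e082182400844103f048010802082090020f040f4120041c080001c030e40e00430061a81c008540c37038010a018660700213030c40e00424060001d020e40a0042e041b81400844083302801080106a050020f020c40a0041c040001c010e4060042c021b80c008340435018010600862030020b010cc0600414020001b))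
  (.leaf (nat_lit 0x175245e0042c2ea38bc008345d4517801060ba822f0020b1750c5e004142e0001b16091a61b138030c8b246d40dcb800864592d168010b0b2562d0020d164a45a004182c928b40082c592716801050b00006c4510158010f0aa1e230021e15434560042c2a858ac00834550915801060aa0a2b0020b1541c56004142a0001b140795a19128030d0a1e6ab0cc880086850fd148010b8a1f62900211143dc5200420287c8a40083c50f514801070a00007038e4138010f099c61d0021e)))
  (.leaf (nat_lit 0x3ca70f8010a079461f002130f2843e004241e0001d0e2743a0042c1c4d8740083438990e801060712a1d0020b0e25c3a004141c0001b0d0380807088030d0690e4703a480086834910d8010b8691e1b002110d22c36004201a4686c0083c34890d80107068000701c7a0c8020f060180f0041e0c214320043018408640085430830c8010a060fe19002130c1f43200424180001d0b1d42e0042e163985c008442c6f0b80108058e2170020f0b1b42e0041c160001c)))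
  (.node (.node (.leaf (nat_lit 0x28690a8010c050ca15002150a19c2a0042814318540084c28610a80109050000742408010141a00c32122f8ec0a7a00219091a4260042c123384c0083424650980106048c2130020b0918c2600414120001b08174220042e102d8440084420570880108040b2110020f08154220041c100001c071441e004300e2683c008541c4f078010a038960f00213071241e004240e0001d061441a0042c0c2783400834184d0680106030920d0020b0612c1a004140c0001b))
  (.leaf (nat_lit 0x1ff001ff001ff001ff001ff001ff001ff001ff001ff001ff001ff001ff001ff001ff001ff001ff001ff001ff001ff001ff001ff001ff001ff001ff001ff001ff001ff001ff165305e0043c2e143fc422b00619174fe0021a70010c8ba962d0021e)))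
  (.leaf (nat_lit 0x133844e0042c266f89c008344cdd1380106099b2270020b1336c4e00414260001b123444a0042e24678940084448cb12801080919a250020f123244a0041c240001c11058ee110e8030c889767808b980086444c5118010b08986230020d113044600418225e88c0082c44bf11801050880006c40140402c2e00c34205797c16ba0021a102e4420042e205b8840084440b310801080816a210020f102c4420041c200001c0a2783e0083c1e09054010783ca90f8010c0794a1f00215)))
def tc00_N_0 : Tr := .node (.node (.node (.node (.leaf (nat_lit 5309505))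
  (.leaf (nat_lit 0)))
  (.leaf (nat_lit 33)))
  (.node (.leaf (nat_lit 75879))
  (.leaf (nat_lit 9222))))
  (.node (.node (.leaf (nat_lit 103525))
  (.leaf (nat_lit 132)))
  (.node (.leaf (nat_lit 175272))
  (.leaf (nat_lit 201))))
def tc00_N_1 : Tr := .node (.node (.node (.node (.leaf (nat_lit 5375105))
  (.leaf (nat_lit 66)))
  (.node (.leaf (nat_lit 44072))
  (.leaf (nat_lit 327))))
  (.node (.node (.leaf (nat_lit 74790))
  (.leaf (nat_lit 4100)))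
  (.node (.leaf (nat_lit 379952391))
  (.leaf (nat_lit 234)))))
  (.node (.node (.node (.leaf (nat_lit 37925))
  (.leaf (nat_lit 99)))
  (.node (.leaf (nat_lit 173222))
  (.leaf (nat_lit 11272))))
  (.node (.node (.leaf (nat_lit 43047))
  (.leaf (nat_lit 294)))
  (.node (.leaf (nat_lit 369926))
  (.leaf (nat_lit 267)))))
def tc00_N_2 : Tr := .node (.node (.node (.node (.leaf (nat_lit 5342305))
  (.leaf (nat_lit 0)))
  (.leaf (nat_lit 1025)))
  (.node (.leaf (nat_lit 141447))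
  (.leaf (nat_lit 327))))
  (.node (.node (.leaf (nat_lit 136325))
  (.leaf (nat_lit 132)))
  (.node (.leaf (nat_lit 345315558))
  (.leaf (nat_lit 6153))))
def tc00_N_3 : Tr := .node (.node (.node (.node (.leaf (nat_lit 5343330))
  (.leaf (nat_lit 66)))
  (.node (.leaf (nat_lit 76872))
  (.leaf (nat_lit 10247))))
  (.node (.node (.leaf (nat_lit 42054))
  (.leaf (nat_lit 165)))
  (.node (.leaf (nat_lit 198))
  (.leaf (nat_lit 234)))))
  (.node (.node (.node (.leaf (nat_lit 70725))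
  (.leaf (nat_lit 3075)))
  (.node (.leaf (nat_lit 174247))
  (.leaf (nat_lit 201))))
  (.node (.node (.leaf (nat_lit 108615))
  (.leaf (nat_lit 294)))
  (.node (.leaf (nat_lit 33))
  (.leaf (nat_lit 8203)))))
def tc00_N : Tr := .node (.node (.node tc00_N_0
  (.node (.node (.node (.leaf (nat_lit 5376130))
  (.leaf (nat_lit 2050)))
  (.node (.leaf (nat_lit 142440))
  (.leaf (nat_lit 360))))
  (.node (.node (.leaf (nat_lit 107622))
  (.leaf (nat_lit 165)))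
  (.node (.leaf (nat_lit 231))
  (.leaf (nat_lit 7178))))))
  tc00_N_1)
  (.node (.node tc00_N_2
  (.node (.node (.node (.leaf (nat_lit 5377155))
  (.leaf (nat_lit 99)))
  (.node (.leaf (nat_lit 109704))
  (.leaf (nat_lit 360))))
  (.node (.node (.leaf (nat_lit 140422))
  (.leaf (nat_lit 5125)))
  (.node (.leaf (nat_lit 264))
  (.leaf (nat_lit 267))))))
  tc00_N_3)
noncomputable def tc00 : TC :=
  ⟨[.l 0, .l 1, .l 2, .l 3, .l 4, .l 5, .l 6, .l 7, .l 8, .l 9, .l 10, .l 11],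
    (nat_lit 5), (nat_lit 9), (nat_lit 0x41ccb524a418820), (nat_lit 63), (nat_lit 24), (nat_lit 5), (nat_lit 32), (nat_lit 6), (nat_lit 66),
    get (nat_lit 10) (nat_lit 0x1003010030080400c02010030080400c02010030080400c02010030080400c02010030080400c020100300804008020080601804010040100401004010040100401004010040100401004014050140501405), Tr.get tc00_N, get (nat_lit 20) (nat_lit 0x3ff003ff003ff003ff003ff003ff003ff003ff003ff003ff003ff003ff003ff003ff003ff003ff003ff003ff003ff003ff003ff003ff003ff003ff003ff003ff003ff003ff003ff003ff003ff003ff003ff003ff003ff000230002200021000200001f0001e0001d0001c0001b0001a000190001800017000160001500014000130001200011000100000f0000e0000d0000c0000b0000a0000900008000070000600005),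
    Tr.get3 tc00_F (nat_lit 20) (nat_lit 5), Tr.get3 tc00_T (nat_lit 5) (nat_lit 7), Tr.get tc00_P⟩

theorem tc00_head : tc00.headOK rel00 tc00_iv = true := by decide +kernel

theorem tc00_b0 : allFrom (nat_lit 0) (nat_lit 6) tc00.blockOK = true := by decide +kernel

def tc00_Q8 : Tr := .leaf (nat_lit 0xbd602b54a9d536b90e794f1c4c688ab83ce543060d414290381406)
theorem tc00_f8_0 : allFrom (nat_lit 0) (nat_lit 24) (tc00.finOK (nat_lit 24) (Tr.get3 tc00_Q8 (nat_lit 9) (nat_lit 6)) (nat_lit 8)) = true := by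
  decide +kernel

def tc00_Q7 : Tr := .leaf (nat_lit 0xbe5aaff3eb6c8a3d0214485ac245d08154920d2b42c5e081181004)
theorem tc00_f7_0 : allFrom (nat_lit 0) (nat_lit 24) (tc00.finOK (nat_lit 24) (Tr.get3 tc00_Q7 (nat_lit 9) (nat_lit 6)) (nat_lit 7)) = true := by
  decide +kernel

def tc00_Q6 : Tr := .leaf (nat_lit 0xb757a9c2e970b2242a80b984cd5113fd3c1c699e8f2123b8307402)
theorem tc00_f6_0 : allFrom (nat_lit 0) (nat_lit 24) (tc00.finOK (nat_lit 24) (Tr.get3 tc00_Q6 (nat_lit 9) (nat_lit 6)) (nat_lit 6)) = true := by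
  decide +kernel

def tc00_Q5 : Tr := .leaf (nat_lit 0xbc5a2b1489c4b2390c7e3c1c0d0622e1509c48210e8682e1408838)
theorem tc00_f5_0 : allFrom (nat_lit 0) (nat_lit 24) (tc00.finOK (nat_lit 24) (Tr.get3 tc00_Q5 (nat_lit 9) (nat_lit 6)) (nat_lit 5)) = true := by
  decide +kernel

def tc00_Q4 : Tr := .leaf (nat_lit 0xbb59aad469b4aa350a7d3b9bcce612d94c9a47208e4662d1388436)
theorem tc00_f4_0 : allFrom (nat_lit 0) (nat_lit 24) (tc00.finOK (nat_lit 24) (Tr.get3 tc00_Q4 (nat_lit 9) (nat_lit 6)) (nat_lit 4)) = true := by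
  decide +kernel

def tc00_Q3 : Tr := .leaf (nat_lit 0xba592a9449a4a231087c3b1b8cc602d1489846200e0642c1308034)
theorem tc00_f3_0 : allFrom (nat_lit 0) (nat_lit 24) (tc00.finOK (nat_lit 24) (Tr.get3 tc00_Q3 (nat_lit 9) (nat_lit 6)) (nat_lit 3)) = true := by
  decide +kernel

def tc00_Q2 : Tr := .leaf (nat_lit 0xb958aa5429949a2d067b3a9b4ca5f2c94496451f8dc622b1287c32)
theorem tc00_f2_0 : allFrom (nat_lit 0) (nat_lit 24) (tc00.finOK (nat_lit 24) (Tr.get3 tc00_Q2 (nat_lit 9) (nat_lit 6)) (nat_lit 2)) = true := by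
  decide +kernel

def tc00_Q1 : Tr := .leaf (nat_lit 0xb8582a1409849229047a3a1b0c85e2c14094441f0d8602a1207830)
theorem tc00_f1_0 : allFrom (nat_lit 0) (nat_lit 24) (tc00.finOK (nat_lit 24) (Tr.get3 tc00_Q1 (nat_lit 9) (nat_lit 6)) (nat_lit 1)) = true := by
  decide +kernel

theorem tc00_blocks : ∀ t < tc00.k, tc00.blockOK t = true :=
  (of_allFrom_append of_lt_zero tc00_b0)

/-- index 24 max 24 total 24 facts 193 | needed cosets 24 facts 193 steps 474 trivial 0 -/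
theorem tc00_index {G : Type*} [Group G] {γ : ℕ → G} (hL : Lab γ tc00_iv) (hr : ∀ t ∈ rel00, t.ev γ = 1) {K : Subgroup G}
    (hK : ∀ t ∈ ([.l 1, .l 2, .l 3, .l 4, .l 5] : List W), t.ev γ ∈ K) :
    K.relIndex (genW γ [.l 1, .l 2, .l 3, .l 4, .l 5, .l 6, .l 7, .l 8]) ≠ 0 ∧ K.relIndex (genW γ [.l 1, .l 2, .l 3, .l 4, .l 5, .l 6, .l 7, .l 8]) ≤ 24 :=
  TC.relIndex_le (D := tc00) (gens := [1, 2, 3, 4, 5, 6, 7, 8]) hL (List.forall_mem_cons.2 ⟨hL.zero_mem K, hK⟩) hr tc00_head tc00_blocks (by decide) (by decide)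
   (List.forall_mem_cons.2 ⟨⟨_, (of_allFrom_append of_lt_zero tc00_f1_0)⟩,
    List.forall_mem_cons.2 ⟨⟨_, (of_allFrom_append of_lt_zero tc00_f2_0)⟩,
    List.forall_mem_cons.2 ⟨⟨_, (of_allFrom_append of_lt_zero tc00_f3_0)⟩,
    List.forall_mem_cons.2 ⟨⟨_, (of_allFrom_append of_lt_zero tc00_f4_0)⟩,
    List.forall_mem_cons.2 ⟨⟨_, (of_allFrom_append of_lt_zero tc00_f5_0)⟩,
    List.forall_mem_cons.2 ⟨⟨_, (of_allFrom_append of_lt_zero tc00_f6_0)⟩,
    List.forall_mem_cons.2 ⟨⟨_, (of_allFrom_append of_lt_zero tc00_f7_0)⟩,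
    List.forall_mem_cons.2 ⟨⟨_, (of_allFrom_append of_lt_zero tc00_f8_0)⟩,
    fun _ h => absurd h List.not_mem_nil⟩⟩⟩⟩⟩⟩⟩⟩)

theorem tc00_idx {G : Type*} [Group G] {γ : ℕ → G} (h0 : γ 0 = 1) (hr : ∀ t ∈ rel00, t.ev γ = 1) {K : Subgroup G}
    (hK : ∀ t ∈ ([.l 1, .l 2, .l 3, .l 4, .l 5] : List W), t.ev γ ∈ K) :
    K.relIndex (genW γ [.l 1, .l 2, .l 3, .l 4, .l 5, .l 6, .l 7, .l 8]) ≠ 0 ∧ K.relIndex (genW γ [.l 1, .l 2, .l 3, .l 4, .l 5, .l 6, .l 7, .l 8]) ≤ 24 := by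
  have a := lab_of_rels h0 hr (iv := tc00_iv) (labs := tc00_labs) (by decide +kernel)
  have b := tc00_index a.1 a.2 (mems_fix (by decide +kernel) hK)
  rwa [genW_fix (by decide +kernel)] at b

theorem tb00 : TB rel00 [.l 1, .l 2, .l 3, .l 4, .l 5, .l 6, .l 7, .l 8] (24 * 32) := fun _ _ δ h0 hr =>
  card_le_of_relIndex (ov_le h0) (tc00_idx h0 hr fun _ => mem_genW δ)
    (tcE_tb _ δ h0 (List.forall_mem_append.1 (List.forall_mem_append.1 hr).1).1)

def m00_L0 : List (ℕ × List ℕ) := [((nat_lit 0), [(nat_lit 0xfedcba9876543210), (nat_lit 0x937245f6d8abec01), (nat_lit 0x845a6c3f1bde9072), (nat_lit 0xca9f2ed145670b83), (nat_lit 0x5de3ab1267f0c894), (nat_lit 0x482791bec30f6da5), (nat_lit 0xcdef19a2403758b6), (nat_lit 0x3910ed8b5fc64a27), (nat_lit 0xd04b76c591e2af38), (nat_lit 0x1c680f57e2bad349), (nat_lit 0xb6cdf0432e19875a), (nat_lit 0xa54873c0e291df6b), (nat_lit 0x6ba582e90473f1dc), (nat_lit 0xef013764a928b5cd),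 (nat_lit 0x25f9c370ba8d146e), (nat_lit 0x28619ad3c457ebf)]),
  ((nat_lit 1), [(nat_lit 0xfedcba9876543210), (nat_lit 0x4c698de7b15fa320), (nat_lit 0x49ae73cb8d5f2160), (nat_lit 0xf91e76cb8254da30), (nat_lit 0x674eb29c8153afd0), (nat_lit 0x6ea9cf78b253d140), (nat_lit 0x4e2cb198735f6da0), (nat_lit 0x3e19c478bd562af0)]),
  ((nat_lit 2), [(nat_lit 0xfedcba9876543210), (nat_lit 0xdb6eca798f524310), (nat_lit 0x39278aebc456fd10), (nat_lit 0x6cfbea879d532410), (nat_lit 0x28497aceb35d6f10), (nat_lit 0x47389abce25fd610)])]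

def m00_D0 : List ℕ := [(nat_lit 0), (nat_lit 513), (nat_lit 1025), (nat_lit 1537), (nat_lit 2049), (nat_lit 2561), (nat_lit 3073), (nat_lit 164866), (nat_lit 175618), (nat_lit 186370), (nat_lit 197122), (nat_lit 207874), (nat_lit 237058), (nat_lit 250370), (nat_lit 283138), (nat_lit 322050), (nat_lit 0), (nat_lit 33423619), (nat_lit 30079747), (nat_lit 2376546564), (nat_lit 45024515), (nat_lit 50017539), (nat_lit 3464137988), (nat_lit 58987779), (nat_lit 0), (nat_lit 332298978565), (nat_lit 292098), (nat_lit 444144141573), (nat_lit 95634691), (nat_lit 45954473413894)]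

def m00_L1 : List (ℕ × List ℕ) := [((nat_lit 0), [(nat_lit 0xfedcba9876543210), (nat_lit 0x937245f6d8abec01), (nat_lit 0x845a6c3f1bde9072), (nat_lit 0xca9f2ed145670b83), (nat_lit 0x5de3ab1267f0c894), (nat_lit 0x482791bec30f6da5), (nat_lit 0x3910ed8b5fc64a27), (nat_lit 0xd04b76c591e2af38), (nat_lit 0x1c680f57e2bad349), (nat_lit 0xb6cdf0432e19875a), (nat_lit 0x6ba582e90473f1dc), (nat_lit 0x176e5f0c829ad34b), (nat_lit 0xef013764a928b5cd), (nat_lit 0x25f9c370ba8d146e), (nat_lit 0x71b4d82af03c59e6), (nat_lit 0x28619ad3c457ebf)]),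
  ((nat_lit 1), [(nat_lit 0xfedcba9876543210), (nat_lit 0x4e2cb198735f6da0)])]

def m00_D1 : List ℕ := [(nat_lit 0), (nat_lit 513), (nat_lit 1025), (nat_lit 1537), (nat_lit 2049), (nat_lit 2561), (nat_lit 87042), (nat_lit 94722), (nat_lit 102402), (nat_lit 110082), (nat_lit 131586), (nat_lit 140802), (nat_lit 150018), (nat_lit 175618), (nat_lit 186882), (nat_lit 217602), (nat_lit 0), (nat_lit 8768259)]

def m00_L2 : List (ℕ × List ℕ) := [((nat_lit 0), [(nat_lit 0xfedcba9876543210), (nat_lit 0x6ba582e90473f1dc), (nat_lit 0xac380457edb126f9), (nat_lit 0xdcfe03578192a46b), (nat_lit 0x3910ed8b5fc64a27), (nat_lit 0x482791bec30f6da5), (nat_lit 0xd04b76c591e2af38), (nat_lit 0x103974c5b28ad6fe)]),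
  ((nat_lit 1), [(nat_lit 0xfedcba9876543210), (nat_lit 0x38ac92be7f5641d0), (nat_lit 0xde4793b8ca521f60), (nat_lit 0x681c9dbe7453fa20), (nat_lit 0x2ef796b8c15da430), (nat_lit 0x4e2cb198735f6da0), (nat_lit 0x1837bf9ecd5a2640), (nat_lit 0xa867b49ec251d3f0)])]

def m00_D2 : List ℕ := [(nat_lit 0), (nat_lit 513), (nat_lit 1025), (nat_lit 2049), (nat_lit 769), (nat_lit 79362), (nat_lit 87042), (nat_lit 95234), (nat_lit 0), (nat_lit 139266), (nat_lit 117250), (nat_lit 48386), (nat_lit 105218), (nat_lit 11266051), (nat_lit 12433923), (nat_lit 13669635)]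

def m00_L3 : List (ℕ × List ℕ) := [((nat_lit 0), [(nat_lit 0xfedcba9876543210), (nat_lit 0x937245f6d8abec01), (nat_lit 0x845a6c3f1bde9072), (nat_lit 0xca9f2ed145670b83), (nat_lit 0x5de3ab1267f0c894), (nat_lit 0xcdef19a2403758b6), (nat_lit 0x1b60e4895d7a23fc), (nat_lit 0x3910ed8b5fc64a27), (nat_lit 0xd04b76c591e2af38), (nat_lit 0x1c680f57e2bad349), (nat_lit 0xa54873c0e291df6b), (nat_lit 0x8253a71d694eb0cf), (nat_lit 0x25f9c370ba8d146e), (nat_lit 0xf9ac8deb73046125), (nat_lit 0x76b24ef3d51c098a), (nat_lit 0x6b1f843ac2579ed)]),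
  ((nat_lit 1), [(nat_lit 0xfedcba9876543210), (nat_lit 0x296cef8b7a5d1340), (nat_lit 0xab4c86e97d512f30), (nat_lit 0x38ac92be7f5641d0), (nat_lit 0xde4793b8ca521f60), (nat_lit 0xa867b49ec251d3f0), (nat_lit 0x681c9dbe7453fa20), (nat_lit 0x69d781ebcf5342a0)]),
  ((nat_lit 2), [(nat_lit 0xfedcba9876543210), (nat_lit 0x39278aebc456fd10)])]

def m00_D3 : List ℕ := [(nat_lit 0), (nat_lit 513), (nat_lit 1025), (nat_lit 1537), (nat_lit 2049), (nat_lit 2561), (nat_lit 3585), (nat_lit 139266), (nat_lit 148994), (nat_lit 158722), (nat_lit 168450), (nat_lit 178690), (nat_lit 225794), (nat_lit 239106), (nat_lit 273922), (nat_lit 309762), (nat_lit 0), (nat_lit 23229699), (nat_lit 27898115), (nat_lit 2042617092), (nat_lit 40317699), (nat_lit 44964611), (nat_lit 2912495876), (nat_lit 3452329220), (nat_lit 0), (nat_lit 207618)]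

def m00_L4 : List (ℕ × List ℕ) := [((nat_lit 0), [(nat_lit 0xfedcba9876543210), (nat_lit 0x6ba582e90473f1dc), (nat_lit 0xac380457edb126f9), (nat_lit 0xcdef19a2403758b6), (nat_lit 0xefcd65342ba89701), (nat_lit 0x3910ed8b5fc64a27), (nat_lit 0x176e5f0c829ad34b), (nat_lit 0x482791bec30f6da5), (nat_lit 0xd04b76c591e2af38), (nat_lit 0x19328da6745cbef), (nat_lit 0xb65a47f31829e0cd), (nat_lit 0x25f9c370ba8d146e), (nat_lit 0x9f526734de1b80ca), (nat_lit 0x5d9418a2fc607be3), (nat_lit 0x5ab6de213cf07984), (nat_lit 0xe67140f3abd89c52)]),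
  ((nat_lit 1), [(nat_lit 0xfedcba9876543210), (nat_lit 0xde4793b8ca521f60), (nat_lit 0x38ac92be7f5641d0), (nat_lit 0x2ef796b8c15da430), (nat_lit 0x681c9dbe7453fa20), (nat_lit 0x4e2cb198735f6da0), (nat_lit 0xa867b49ec251d3f0), (nat_lit 0x1837bf9ecd5a2640)])]

def m00_D4 : List ℕ := [(nat_lit 0), (nat_lit 513), (nat_lit 1025), (nat_lit 2049), (nat_lit 2561), (nat_lit 769), (nat_lit 1281), (nat_lit 115202), (nat_lit 123906), (nat_lit 133122), (nat_lit 141826), (nat_lit 148738), (nat_lit 177154), (nat_lit 186882), (nat_lit 215554), (nat_lit 226562), (nat_lit 0), (nat_lit 199682), (nat_lit 12934915), (nat_lit 177410), (nat_lit 19566339), (nat_lit 38767619), (nat_lit 2414915332), (nat_lit 2678343940)]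

def m00_L5 : List (ℕ × List ℕ) := [((nat_lit 0), [(nat_lit 0xfedcba9876543210), (nat_lit 0x482791bec30f6da5), (nat_lit 0xdcfe03578192a46b), (nat_lit 0x1b60e4895d7a23fc), (nat_lit 0x2748560ceabd1f39), (nat_lit 0xa9358feb02c1d647), (nat_lit 0x601bc2759f834ade), (nat_lit 0x35a97dc0b4e6f128)]),
  ((nat_lit 1), [(nat_lit 0xfedcba9876543210), (nat_lit 0x4e2cb198735f6da0)])]

def m00_D5 : List ℕ := [(nat_lit 0), (nat_lit 513), (nat_lit 1537), (nat_lit 2049), (nat_lit 56834), (nat_lit 63490), (nat_lit 80898), (nat_lit 112642), (nat_lit 0), (nat_lit 1025)]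

def m00_L6 : List (ℕ × List ℕ) := [((nat_lit 0), [(nat_lit 0xfedcba9876543210), (nat_lit 0x482791bec30f6da5), (nat_lit 0xa56bcf709de12348), (nat_lit 0x6cae5d078fb34129), (nat_lit 0x103974c5b28ad6fe), (nat_lit 0x3718025ce496fadb), (nat_lit 0xdbf5e6890ac21437), (nat_lit 0x294083eb517daf6c)]),
  ((nat_lit 1), [(nat_lit 0xfedcba9876543210), (nat_lit 0x4e2cb198735f6da0)])]

def m00_D6 : List ℕ := [(nat_lit 0), (nat_lit 513), (nat_lit 1537), (nat_lit 2049), (nat_lit 56834), (nat_lit 63490), (nat_lit 80898), (nat_lit 112642), (nat_lit 0), (nat_lit 1025)]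

def m00_L7 : List (ℕ × List ℕ) := [((nat_lit 0), [(nat_lit 0xfedcba9876543210), (nat_lit 0x5de3ab1267f0c894), (nat_lit 0x6ba582e90473f1dc), (nat_lit 0xac380457edb126f9), (nat_lit 0xcdef19a2403758b6), (nat_lit 0x3910ed8b5fc64a27), (nat_lit 0x176e5f0c829ad34b), (nat_lit 0x7abf28d1406c59e3), (nat_lit 0xb3c240f6dea98751), (nat_lit 0x967df543281bec0a), (nat_lit 0x482791bec30f6da5), (nat_lit 0xd04b76c591e2af38), (nat_lit 0x19328da6745cbef), (nat_lit 0x25f9c370ba8d146e), (nat_lit 0x83caf546192eb70d), (nat_lit 0xe67140f3abd89c52)]),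
  ((nat_lit 1), [(nat_lit 0xfedcba9876543210), (nat_lit 0xfba7ed89c3546120)])]

def m00_D7 : List ℕ := [(nat_lit 0), (nat_lit 513), (nat_lit 1025), (nat_lit 1537), (nat_lit 2049), (nat_lit 1281), (nat_lit 1793), (nat_lit 74754), (nat_lit 81410), (nat_lit 87810), (nat_lit 108546), (nat_lit 116226), (nat_lit 123906), (nat_lit 130818), (nat_lit 176642), (nat_lit 186114), (nat_lit 0), (nat_lit 6042883)]

def m00_L8 : List (ℕ × List ℕ) := [((nat_lit 0), [(nat_lit 0xfedcba9876543210), (nat_lit 0x5de3ab1267f0c894), (nat_lit 0x6ba582e90473f1dc), (nat_lit 0xac380457edb126f9), (nat_lit 0xcdef19a2403758b6), (nat_lit 0xbde6f5423ca97801), (nat_lit 0x3910ed8b5fc64a27), (nat_lit 0x176e5f0c829ad34b), (nat_lit 0x7abf28d1406c59e3), (nat_lit 0x967df543281bec0a), (nat_lit 0x482791bec30f6da5), (nat_lit 0xd04b76c591e2af38), (nat_lit 0x19328da6745cbef), (nat_lit 0x25f9c370ba8d146e), (nat_lit 0x83caf546192eb70d), (nat_lit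 0xe67140f3abd89c52)]),
  ((nat_lit 1), [(nat_lit 0xfedcba9876543210), (nat_lit 0xf91e76cb8254da30), (nat_lit 0xf76891bced5423a0), (nat_lit 0xfc3982e7ba5416d0), (nat_lit 0xfba7ed89c3546120), (nat_lit 0xf82bc37e9154ad60)])]

def m00_D8 : List ℕ := [(nat_lit 0), (nat_lit 513), (nat_lit 1025), (nat_lit 1537), (nat_lit 2049), (nat_lit 2561), (nat_lit 1281), (nat_lit 1793), (nat_lit 101378), (nat_lit 109314), (nat_lit 132098), (nat_lit 140802), (nat_lit 149506), (nat_lit 157442), (nat_lit 206338), (nat_lit 216834), (nat_lit 0), (nat_lit 10956035), (nat_lit 8337155), (nat_lit 10386179), (nat_lit 1665576708), (nat_lit 1949990148)]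

def m00_L9 : List (ℕ × List ℕ) := [((nat_lit 0), [(nat_lit 0xfedcba9876543210), (nat_lit 0xcdef19a2403758b6), (nat_lit 0xca9f2ed145670b83), (nat_lit 0x5de3ab1267f0c894), (nat_lit 0xefcd65342ba89701), (nat_lit 0xf9ac8deb73046125), (nat_lit 0x3ed591b804c6f2a7), (nat_lit 0xdcfe03578192a46b), (nat_lit 0x3b158de90f764a2c), (nat_lit 0xd53e7fc08ab21649), (nat_lit 0xacf95607b2e1d438), (nat_lit 0x51b32eda6c40798f), (nat_lit 0xe35d4cf62918b07a), (nat_lit 0x9fca306418dbe752), (nat_lit 0x960a4cf31e2b857d), (nat_lit 0xa0697fc5bd81234e)]),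
  ((nat_lit 1), [(nat_lit 0xfedcba9876543210), (nat_lit 0x4b17e289c65f3ad0)])]

def m00_D9 : List ℕ := [(nat_lit 0), (nat_lit 513), (nat_lit 1025), (nat_lit 1537), (nat_lit 2049), (nat_lit 62466), (nat_lit 69122), (nat_lit 75778), (nat_lit 94722), (nat_lit 102402), (nat_lit 124930), (nat_lit 165378), (nat_lit 176130), (nat_lit 204802), (nat_lit 254978), (nat_lit 329730), (nat_lit 0), (nat_lit 7980803)]

def m00_L10 : List (ℕ × List ℕ) := [((nat_lit 0), [(nat_lit 0xfedcba9876543210), (nat_lit 0xcdef19a2403758b6), (nat_lit 0xca9f2ed145670b83), (nat_lit 0xf9ac8deb73046125)]),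
  ((nat_lit 1), [(nat_lit 0xfedcba9876543210), (nat_lit 0xfba7ed89c3546120), (nat_lit 0x4e2cb198735f6da0), (nat_lit 0x4b17e289c65f3ad0)])]

def m00_D10 : List ℕ := [(nat_lit 0), (nat_lit 513), (nat_lit 1025), (nat_lit 36866), (nat_lit 0), (nat_lit 47618), (nat_lit 34050), (nat_lit 2267395)]

def m00_L11 : List (ℕ × List ℕ) := [((nat_lit 0), [(nat_lit 0xfedcba9876543210), (nat_lit 0x482791bec30f6da5)]),
  ((nat_lit 1), [(nat_lit 0xfedcba9876543210), (nat_lit 0x4e2cb198735f6da0)])]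

def m00_D11 : List ℕ := [(nat_lit 0), (nat_lit 513), (nat_lit 0), (nat_lit 1025)]

def m00_L12 : List (ℕ × List ℕ) := [((nat_lit 0), [(nat_lit 0xfedcba9876543210), (nat_lit 0x1ed0c3785f9a426b), (nat_lit 0x3048ba95edc62f17), (nat_lit 0x6edb04589173a2fc), (nat_lit 0x2765ba9c048df31e), (nat_lit 0x4ba8c379ed0f2165), (nat_lit 0x4029ca75b6ef3d18), (nat_lit 0xac380457edb126f9)]),
  ((nat_lit 2), [(nat_lit 0xfedcba9876543210), (nat_lit 0xa867b49ec251d3f0), (nat_lit 0x1837bf9ecd5a2640), (nat_lit 0x6cfbea879d532410), (nat_lit 0x4e2cb198735f6da0), (nat_lit 0x1948cd7be65a3f20), (nat_lit 0x27ab84ec965d31f0), (nat_lit 0xd71b8fec93526a40)]),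
  ((nat_lit 1), [(nat_lit 0xfedcba9876543210), (nat_lit 0x3bd87fc9e156a240), (nat_lit 0xa7d9e38cb451f260)])]

def m00_D12 : List ℕ := [(nat_lit 0), (nat_lit 513), (nat_lit 1537), (nat_lit 769), (nat_lit 1793), (nat_lit 55810), (nat_lit 62466), (nat_lit 68354), (nat_lit 0), (nat_lit 2798339), (nat_lit 2047235), (nat_lit 1281), (nat_lit 222333700), (nat_lit 244738), (nat_lit 363666180), (nat_lit 425166596), (nat_lit 0), (nat_lit 49922), (nat_lit 294146)]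

def m00 : PM :=
  ⟨(nat_lit 16), (nat_lit 4), [(nat_lit 0x937245f6d8abec01), (nat_lit 0x845a6c3f1bde9072), (nat_lit 0xca9f2ed145670b83), (nat_lit 0x5de3ab1267f0c894), (nat_lit 0x482791bec30f6da5), (nat_lit 0xcdef19a2403758b6), (nat_lit 0xbde6f5423ca97801), (nat_lit 0xefcd65342ba89701)],
    [[.l 1, .l 2, .l 3, .l 4, .l 5, .l 6, .l 7, .l 8],
    [.l 1, .l 2, .l 3, .l 4, .l 5],
    [.mul (.l 1) (.l 2), .mul (.l 2) (.l 3), .mul (.mul (.mul (.l 1) (.l 2)) (.l 3)) (.l 4), .mul (.l 6) (.l 8), .mul (.mul (.mul (.l 7) (.l 6)) (.l 8)) (.l 7)],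
    [.l 1, .l 2, .l 3, .l 4, .l 6, .l 8, .mul (.mul (.mul (.l 7) (.l 6)) (.l 8)) (.l 7)],
    [.mul (.l 1) (.l 2), .mul (.l 2) (.l 3), .mul (.mul (.mul (.l 1) (.l 2)) (.l 3)) (.l 4), .l 6, .l 8, .mul (.mul (.mul (.l 7) (.l 6)) (.l 8)) (.l 7)],
    [.l 5, .mul (.mul (.mul (.l 1) (.l 2)) (.l 3)) (.l 4), .mul (.l 6) (.l 8), .mul (.mul (.mul (.l 7) (.l 6)) (.l 8)) (.l 7)],
    [.l 5, .mul (.mul (.mul (.l 1) (.l 2)) (.l 3)) (.l 4), .mul (.mul (.l 1) (.mul (.l 6) (.l 8))) (.l 1), .mul (.mul (.l 1) (.mul (.mul (.mul (.l 7) (.l 6)) (.l 8)) (.l 7))) (.l 1)],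
    [.l 4, .mul (.l 1) (.l 2), .mul (.l 2) (.l 3), .l 6],
    [.l 4, .mul (.l 1) (.l 2), .mul (.l 2) (.l 3), .l 6, .l 7],
    [.l 6, .l 3, .l 4, .l 8],
    [.l 6, .l 3, .mul (.mul (.l 1) (.l 2)) (.l 4)],
    [.l 5, .mul (.mul (.mul (.l 1) (.l 2)) (.l 3)) (.l 4)],
    [.mul (.l 6) (.l 7), .mul (.l 7) (.l 8), .mul (.mul (.mul (.mul (.mul (.l 1) (.l 2)) (.l 6)) (.l 7)) (.l 2)) (.l 1)]],
    [m00_L0, m00_L1, m00_L2, m00_L3, m00_L4, m00_L5, m00_L6, m00_L7, m00_L8, m00_L9, m00_L10, m00_L11, m00_L12], [m00_D0, m00_D1, m00_D2, m00_D3, m00_D4, m00_D5, m00_D6, m00_D7, m00_D8, m00_D9, m00_D10, m00_D11, m00_D12]⟩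

instance m00_ne : NeZero m00.n := ⟨by decide⟩

theorem m00_ok0 : m00.ok0 = true := by decide +kernel

theorem m00_k0 : allFrom (nat_lit 0) (nat_lit 1) m00.okK = true := by decide +kernel

theorem m00_k1 : allFrom (nat_lit 1) (nat_lit 1) m00.okK = true := by decide +kernel

theorem m00_k2 : allFrom (nat_lit 2) (nat_lit 1) m00.okK = true := by decide +kernel

theorem m00_k3 : allFrom (nat_lit 3) (nat_lit 1) m00.okK = true := by decide +kernel

theorem m00_k4 : allFrom (nat_lit 4) (nat_lit 1) m00.okK = true := by decide +kernel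

theorem m00_k5 : allFrom (nat_lit 5) (nat_lit 1) m00.okK = true := by decide +kernel

theorem m00_k6 : allFrom (nat_lit 6) (nat_lit 1) m00.okK = true := by decide +kernel

theorem m00_k7 : allFrom (nat_lit 7) (nat_lit 1) m00.okK = true := by decide +kernel

theorem m00_k8 : allFrom (nat_lit 8) (nat_lit 1) m00.okK = true := by decide +kernel

theorem m00_k9 : allFrom (nat_lit 9) (nat_lit 1) m00.okK = true := by decide +kernel

theorem m00_k10 : allFrom (nat_lit 10) (nat_lit 1) m00.okK = true := by decide +kernel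

theorem m00_k11 : allFrom (nat_lit 11) (nat_lit 1) m00.okK = true := by decide +kernel

theorem m00_k12 : allFrom (nat_lit 12) (nat_lit 1) m00.okK = true := by decide +kernel

theorem m00_ok : m00.OK := PM.OK.of_check m00_ok0
  (of_allFrom_append (of_allFrom_append (of_allFrom_append (of_allFrom_append (of_allFrom_append (of_allFrom_append (of_allFrom_append (of_allFrom_append (of_allFrom_append (of_allFrom_append (of_allFrom_append (of_allFrom_append (of_allFrom_append of_lt_zero m00_k0) m00_k1) m00_k2) m00_k3) m00_k4) m00_k5) m00_k6) m00_k7) m00_k8) m00_k9) m00_k10) m00_k11) m00_k12)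

theorem m00_card0 : Nat.card (genW m00.gam (m00.ws 0)) = 768 := (m00_ok.card 0).trans (by decide +kernel)

theorem m00_card1 : Nat.card (genW m00.gam (m00.ws 1)) = 32 := (m00_ok.card 1).trans (by decide +kernel)

theorem m00_card2 : Nat.card (genW m00.gam (m00.ws 2)) = 64 := (m00_ok.card 2).trans (by decide +kernel)

theorem m00_card3 : Nat.card (genW m00.gam (m00.ws 3)) = 256 := (m00_ok.card 3).trans (by decide +kernel)

theorem m00_card4 : Nat.card (genW m00.gam (m00.ws 4)) = 128 := (m00_ok.card 4).trans (by decide +kernel)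

theorem m00_card5 : Nat.card (genW m00.gam (m00.ws 5)) = 16 := (m00_ok.card 5).trans (by decide +kernel)

theorem m00_card6 : Nat.card (genW m00.gam (m00.ws 6)) = 16 := (m00_ok.card 6).trans (by decide +kernel)

theorem m00_card7 : Nat.card (genW m00.gam (m00.ws 7)) = 32 := (m00_ok.card 7).trans (by decide +kernel)

theorem m00_card8 : Nat.card (genW m00.gam (m00.ws 8)) = 96 := (m00_ok.card 8).trans (by decide +kernel)

theorem m00_card9 : Nat.card (genW m00.gam (m00.ws 9)) = 32 := (m00_ok.card 9).trans (by decide +kernel)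

theorem m00_card10 : Nat.card (genW m00.gam (m00.ws 10)) = 16 := (m00_ok.card 10).trans (by decide +kernel)

theorem m00_card11 : Nat.card (genW m00.gam (m00.ws 11)) = 4 := (m00_ok.card 11).trans (by decide +kernel)

theorem m00_card12 : Nat.card (genW m00.gam (m00.ws 12)) = 192 := (m00_ok.card 12).trans (by decide +kernel)

theorem m00_s1_ev : m00.eval (.all 0 40 [] (.imp (.one (.mul (.l 40) (.l 40))) (.ex 0 41 [(.l 40, .l 40)] (.eq (.mul (.l 41) (.l 41)) (.l 5))))) = true := by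
  decide +kernel

theorem m00_s1 {G : Type*} [Group G] {γ : ℕ → G} (h : IsoW m00.gam γ) :
    ∀ y ∈ genW γ (m00.ws 0), y * y = 1 → ∃ x ∈ genW γ (m00.ws 0), x * y = y * x ∧ x * x = γ 5 :=
  m00_ok.transfer h m00_s1_ev

theorem m00_s2_ev : m00.eval (.all 0 40 [] (.imp (.one (.pow (.l 40) 4)) (.or (.one (.mul (.l 40) (.l 40))) (.or (.eq (.mul (.l 40) (.l 40)) (.l 5)) (.or (.ex 0 41 [(.mul (.mul (.mul (.l 1) (.l 2)) (.l 3)) (.l 4), .mul (.l 40) (.l 40))] (.tt)) (.ex 0 41 [(.mul (.l 6) (.l 8), .mul (.l 40) (.l 40))] (.tt))))))) = true := by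
  decide +kernel

theorem m00_s2 {G : Type*} [Group G] {γ : ℕ → G} (h : IsoW m00.gam γ) :
    ∀ x ∈ genW γ (m00.ws 0), x ^ 4 = 1 → x * x = 1 ∨ x * x = γ 5 ∨ (∃ k ∈ genW γ (m00.ws 0), k * (γ 1 * γ 2 * γ 3 * γ 4) = x * x * k ∧ True) ∨ (∃ k ∈ genW γ (m00.ws 0), k * (γ 6 * γ 8) = x * x * k ∧ True) :=
  m00_ok.transfer h m00_s2_ev

theorem m00_d1_ev : m00.eval (.ex 0 40 [(.mul (.l 6) (.l 8), .mul (.l 6) (.l 8))] (.and (.eq (.mul (.mul (.mul (.l 40) (.mul (.mul (.mul (.l 1) (.l 2)) (.l 3)) (.l 4))) (.l 40)) (.mul (.mul (.mul (.l 1) (.l 2)) (.l 3)) (.l 4))) (.mul (.l 6) (.l 8))) (.and (.eq (.mul (.l 40) (.l 40)) (.mul (.l 5) (.mul (.l 6) (.l 8)))) (.and (.eq (.mul (.mul (.mul (.mul (.l 1) (.l 2)) (.l 3)) (.l 4)) (.mul (.l 6) (.l 8))) (.mul (.mul (.l 6) (.l 8)) (.mul (.mul (.mul (.l 1) (.l 2)) (.l 3)) (.l 4)))) (.one (.mul (.mul (.mul (.mul (.l 1) (.l 2)) (.l 3)) (.l 4)) (.mul (.mul (.mul (.l 1) (.l 2)) (.l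 3)) (.l 4)))))))) = true := by
  decide +kernel

theorem m00_d1 {G : Type*} [Group G] {γ : ℕ → G} (h : IsoW m00.gam γ) :
    ∃ x ∈ genW γ (m00.ws 0), x * (γ 6 * γ 8) = γ 6 * γ 8 * x ∧ x * (γ 1 * γ 2 * γ 3 * γ 4) * x * (γ 1 * γ 2 * γ 3 * γ 4) = γ 6 * γ 8 ∧ x * x = γ 5 * (γ 6 * γ 8) ∧ γ 1 * γ 2 * γ 3 * γ 4 * (γ 6 * γ 8) = γ 6 * γ 8 * (γ 1 * γ 2 * γ 3 * γ 4) ∧ γ 1 * γ 2 * γ 3 * γ 4 * (γ 1 * γ 2 * γ 3 * γ 4) = 1 :=
  m00_ok.transfer h m00_d1_ev

theorem m00_d2_ev : m00.eval (.all 0 40 [(.mul (.l 6) (.l 8), .mul (.l 6) (.l 8))] (.imp (.eq (.mul (.l 40) (.l 40)) (.mul (.mul (.l 6) (.l 8)) (.l 5))) (.all 0 41 [(.mul (.l 6) (.l 8), .mul (.l 6) (.l 8))] (.imp (.one (.mul (.l 41) (.l 41))) (.imp (.eq (.mul (.mul (.mul (.l 40) (.l 41)) (.l 40)) (.l 41)) (.l 5)) (.ex 0 42 [(.mul (.l 6) (.l 8), .l 41)] (.tt))))))) = true := by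
  decide +kernel

theorem m00_d2 {G : Type*} [Group G] {γ : ℕ → G} (h : IsoW m00.gam γ) :
    ∀ x ∈ genW γ (m00.ws 0), x * (γ 6 * γ 8) = γ 6 * γ 8 * x → x * x = γ 6 * γ 8 * γ 5 → ∀ w ∈ genW γ (m00.ws 0), w * (γ 6 * γ 8) = γ 6 * γ 8 * w → w * w = 1 → x * w * x * w = γ 5 → ∃ k ∈ genW γ (m00.ws 0), k * (γ 6 * γ 8) = w * k ∧ True :=
  m00_ok.transfer h m00_d2_ev

theorem m00_d3_ev : m00.eval (.all 0 40 [(.mul (.l 6) (.l 8), .mul (.l 6) (.l 8))] (.imp (.one (.pow (.l 40) 3)) (.one (.l 40)))) = true := by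
  decide +kernel

theorem m00_d3 {G : Type*} [Group G] {γ : ℕ → G} (h : IsoW m00.gam γ) :
    ∀ x ∈ genW γ (m00.ws 0), x * (γ 6 * γ 8) = γ 6 * γ 8 * x → x ^ 3 = 1 → x = 1 :=
  m00_ok.transfer h m00_d3_ev

theorem m00_d4_ev : m00.eval (.ex 0 40 [(.mul (.mul (.mul (.l 1) (.l 2)) (.l 3)) (.l 4), .mul (.mul (.mul (.l 1) (.l 2)) (.l 3)) (.l 4))] (.and (.one (.pow (.l 40) 3)) (.not (.one (.l 40))))) = true := by
  decide +kernel

theorem m00_d4 {G : Type*} [Group G] {γ : ℕ → G} (h : IsoW m00.gam γ) :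
    ∃ x ∈ genW γ (m00.ws 0), x * (γ 1 * γ 2 * γ 3 * γ 4) = γ 1 * γ 2 * γ 3 * γ 4 * x ∧ x ^ 3 = 1 ∧ x ≠ 1 :=
  m00_ok.transfer h m00_d4_ev

theorem m00_l1_ev : m00.eval (.all 2 40 [] (.imp (.one (.mul (.l 40) (.l 40))) (.or (.one (.l 40)) (.ex 0 41 [] (.eq (.mul (.l 41) (.l 41)) (.l 40)))))) = true := by
  decide +kernel

theorem m00_l1 {G : Type*} [Group G] {γ : ℕ → G} (h : IsoW m00.gam γ) :
    ∀ y ∈ genW γ (m00.ws 2), y * y = 1 → y = 1 ∨ (∃ x ∈ genW γ (m00.ws 0), x * x = y) :=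
  m00_ok.transfer h m00_l1_ev

theorem m00_l2_ev : m00.eval (.all 4 40 [] (.imp (.one (.mul (.l 40) (.l 40))) (.or (.mem 2 (.l 40)) (.ex 0 41 [(.l 6, .l 40)] (.tt))))) = true := by
  decide +kernel

theorem m00_l2 {G : Type*} [Group G] {γ : ℕ → G} (h : IsoW m00.gam γ) :
    ∀ y ∈ genW γ (m00.ws 4), y * y = 1 → y ∈ genW γ (m00.ws 2) ∨ (∃ k ∈ genW γ (m00.ws 0), k * γ 6 = y * k ∧ True) :=
  m00_ok.transfer h m00_l2_ev

theorem m00_n7_ev : m00.eval (.all 7 40 [] (.not (.eq (.mul (.l 40) (.l 40)) (.l 4)))) = true := by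
  decide +kernel

theorem m00_n7 {G : Type*} [Group G] {γ : ℕ → G} (h : IsoW m00.gam γ) :
    ∀ x ∈ genW γ (m00.ws 7), x * x ≠ γ 4 :=
  m00_ok.transfer h m00_n7_ev

theorem m00_n9_ev : m00.eval (.all 9 40 [] (.not (.eq (.mul (.l 40) (.l 40)) (.l 6)))) = true := by
  decide +kernel

theorem m00_n9 {G : Type*} [Group G] {γ : ℕ → G} (h : IsoW m00.gam γ) :
    ∀ x ∈ genW γ (m00.ws 9), x * x ≠ γ 6 :=
  m00_ok.transfer h m00_n9_ev

theorem m00_n10_ev : m00.eval (.all 10 40 [] (.not (.eq (.mul (.l 40) (.l 40)) (.mul (.l 6) (.l 3))))) = true := by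
  decide +kernel

theorem m00_n10 {G : Type*} [Group G] {γ : ℕ → G} (h : IsoW m00.gam γ) :
    ∀ x ∈ genW γ (m00.ws 10), x * x ≠ γ 6 * γ 3 :=
  m00_ok.transfer h m00_n10_ev

theorem m00_sd_ev : m00.eval (.all 7 40 [] (.imp (.one (.mul (.l 40) (.l 40))) (.all 7 41 [] (.imp (.one (.mul (.l 41) (.l 41))) (.one (.pow (.mul (.l 40) (.l 41)) 4)))))) = true := by
  decide +kernel

theorem m00_sd {G : Type*} [Group G] {γ : ℕ → G} (h : IsoW m00.gam γ) :
    ∀ x ∈ genW γ (m00.ws 7), x * x = 1 → ∀ y ∈ genW γ (m00.ws 7), y * y = 1 → (x * y) ^ 4 = 1 :=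
  m00_ok.transfer h m00_sd_ev

theorem m00_t1_ev : m00.eval (.all 3 40 [] (.or (.mem 2 (.l 40)) (.or (.mem 2 (.mul (.l 40) (.l 4))) (.or (.mem 2 (.mul (.l 40) (.l 6))) (.mem 2 (.mul (.mul (.l 40) (.l 6)) (.l 3))))))) = true := by
  decide +kernel

theorem m00_t1 {G : Type*} [Group G] {γ : ℕ → G} (h : IsoW m00.gam γ) :
    ∀ x ∈ genW γ (m00.ws 3), x ∈ genW γ (m00.ws 2) ∨ x * γ 4 ∈ genW γ (m00.ws 2) ∨ x * γ 6 ∈ genW γ (m00.ws 2) ∨ x * γ 6 * γ 3 ∈ genW γ (m00.ws 2) :=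
  m00_ok.transfer h m00_t1_ev

theorem m00_e5_ev : m00.eval (.all 5 40 [] (.one (.mul (.l 40) (.l 40)))) = true := by
  decide +kernel

theorem m00_e5 {G : Type*} [Group G] {γ : ℕ → G} (h : IsoW m00.gam γ) :
    ∀ x ∈ genW γ (m00.ws 5), x * x = 1 :=
  m00_ok.transfer h m00_e5_ev

theorem m00_e6_ev : m00.eval (.all 6 40 [] (.one (.mul (.l 40) (.l 40)))) = true := by
  decide +kernel

theorem m00_e6 {G : Type*} [Group G] {γ : ℕ → G} (h : IsoW m00.gam γ) :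
    ∀ x ∈ genW γ (m00.ws 6), x * x = 1 :=
  m00_ok.transfer h m00_e6_ev

theorem m00_pr_ev : m00.eval (.all 2 40 [] (.ex 5 41 [] (.mem 6 (.mul (.inv (.l 41)) (.l 40))))) = true := by
  decide +kernel

theorem m00_pr {G : Type*} [Group G] {γ : ℕ → G} (h : IsoW m00.gam γ) :
    ∀ x ∈ genW γ (m00.ws 2), ∃ y ∈ genW γ (m00.ws 5), y⁻¹ * x ∈ genW γ (m00.ws 6) :=
  m00_ok.transfer h m00_pr_ev

theorem m00_iv_ev : m00.eval (.all 2 40 [] (.imp (.one (.mul (.l 40) (.l 40))) (.or (.mem 5 (.l 40)) (.mem 6 (.l 40))))) = true := by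
  decide +kernel

theorem m00_iv {G : Type*} [Group G] {γ : ℕ → G} (h : IsoW m00.gam γ) :
    ∀ x ∈ genW γ (m00.ws 2), x * x = 1 → x ∈ genW γ (m00.ws 5) ∨ x ∈ genW γ (m00.ws 6) :=
  m00_ok.transfer h m00_iv_ev

theorem m00_cm_ev : m00.eval (.all 5 40 [] (.all 6 41 [(.l 40, .l 40)] (.or (.mem 6 (.l 40)) (.mem 5 (.l 41))))) = true := by
  decide +kernel

theorem m00_cm {G : Type*} [Group G] {γ : ℕ → G} (h : IsoW m00.gam γ) :
    ∀ x ∈ genW γ (m00.ws 5), ∀ y ∈ genW γ (m00.ws 6), y * x = x * y → x ∈ genW γ (m00.ws 6) ∨ y ∈ genW γ (m00.ws 5) :=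
  m00_ok.transfer h m00_cm_ev

theorem m00_f5_ev : m00.eval (.all 5 40 [] (.imp (.not (.mem 6 (.l 40))) (.all 5 41 [] (.imp (.mem 6 (.l 41)) (.ex 6 42 [] (.eq (.mul (.mul (.mul (.l 42) (.l 40)) (.inv (.l 42))) (.inv (.l 40))) (.l 41))))))) = true := by
  decide +kernel

theorem m00_f5 {G : Type*} [Group G] {γ : ℕ → G} (h : IsoW m00.gam γ) :
    ∀ x ∈ genW γ (m00.ws 5), x ∉ genW γ (m00.ws 6) → ∀ u ∈ genW γ (m00.ws 5), u ∈ genW γ (m00.ws 6) → ∃ y ∈ genW γ (m00.ws 6), y * x * y⁻¹ * x⁻¹ = u :=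
  m00_ok.transfer h m00_f5_ev

theorem m00_f6_ev : m00.eval (.all 6 40 [] (.imp (.not (.mem 5 (.l 40))) (.all 6 41 [] (.imp (.mem 5 (.l 41)) (.ex 5 42 [] (.eq (.mul (.mul (.mul (.l 42) (.l 40)) (.inv (.l 42))) (.inv (.l 40))) (.l 41))))))) = true := by
  decide +kernel

theorem m00_f6 {G : Type*} [Group G] {γ : ℕ → G} (h : IsoW m00.gam γ) :
    ∀ x ∈ genW γ (m00.ws 6), x ∉ genW γ (m00.ws 5) → ∀ u ∈ genW γ (m00.ws 6), u ∈ genW γ (m00.ws 5) → ∃ y ∈ genW γ (m00.ws 5), y * x * y⁻¹ * x⁻¹ = u :=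
  m00_ok.transfer h m00_f6_ev

theorem m00_u_ev : m00.eval (.all 5 40 [] (.imp (.mem 6 (.l 40)) (.mem 11 (.l 40)))) = true := by
  decide +kernel

theorem m00_u {G : Type*} [Group G] {γ : ℕ → G} (h : IsoW m00.gam γ) :
    ∀ x ∈ genW γ (m00.ws 5), x ∈ genW γ (m00.ws 6) → x ∈ genW γ (m00.ws 11) :=
  m00_ok.transfer h m00_u_ev

theorem m00_cl_ev : m00.eval (.all 0 40 [(.mul (.l 1) (.l 2), .mul (.l 1) (.l 2)), (.mul (.l 2) (.l 3), .mul (.l 2) (.l 3)), (.mul (.l 6) (.l 8), .mul (.l 6) (.l 8)), (.mul (.mul (.mul (.l 7) (.l 6)) (.l 8)) (.l 7), .mul (.mul (.mul (.l 7) (.l 6)) (.l 8)) (.l 7))] (.mem 11 (.l 40))) = true := by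
  decide +kernel

theorem m00_cl {G : Type*} [Group G] {γ : ℕ → G} (h : IsoW m00.gam γ) :
    ∀ x ∈ genW γ (m00.ws 0), x * (γ 1 * γ 2) = γ 1 * γ 2 * x → x * (γ 2 * γ 3) = γ 2 * γ 3 * x → x * (γ 6 * γ 8) = γ 6 * γ 8 * x → x * (γ 7 * γ 6 * γ 8 * γ 7) = γ 7 * γ 6 * γ 8 * γ 7 * x → x ∈ genW γ (m00.ws 11) :=
  m00_ok.transfer h m00_cl_ev

theorem m00_res_ev : m00.eval (.and (.all 2 40 [] (.mem 12 (.l 40))) (.and (.one (.pow (.mul (.l 6) (.l 7)) 3)) (.and (.one (.pow (.mul (.l 7) (.l 8)) 3)) (.and (.one (.pow (.mul (.mul (.mul (.mul (.mul (.l 1) (.l 2)) (.l 6)) (.l 7)) (.l 2)) (.l 1)) 3)) (.not (.one (.mul (.l 6) (.l 7)))))))) = true := by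
  decide +kernel

theorem m00_res {G : Type*} [Group G] {γ : ℕ → G} (h : IsoW m00.gam γ) :
    (∀ x ∈ genW γ (m00.ws 2), x ∈ genW γ (m00.ws 12)) ∧ (γ 6 * γ 7) ^ 3 = 1 ∧ (γ 7 * γ 8) ^ 3 = 1 ∧ (γ 1 * γ 2 * γ 6 * γ 7 * γ 2 * γ 1) ^ 3 = 1 ∧ γ 6 * γ 7 ≠ 1 :=
  m00_ok.transfer h m00_res_ev

theorem m00_r9_ev : m00.eval (.and (.mem 9 (.l 3)) (.and (.mem 9 (.l 8)) (.and (.one (.mul (.l 3) (.l 3))) (.and (.one (.mul (.l 8) (.l 8))) (.not (.one (.pow (.mul (.l 3) (.l 8)) 4))))))) = true := by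
  decide +kernel

theorem m00_r9 {G : Type*} [Group G] {γ : ℕ → G} (h : IsoW m00.gam γ) :
    γ 3 ∈ genW γ (m00.ws 9) ∧ γ 8 ∈ genW γ (m00.ws 9) ∧ γ 3 * γ 3 = 1 ∧ γ 8 * γ 8 = 1 ∧ (γ 3 * γ 8) ^ 4 ≠ 1 :=
  m00_ok.transfer h m00_r9_ev

theorem m00_nm_ev : m00.eval (.and (.not (.mem 4 (.l 4))) (.and (.not (.mem 2 (.l 6))) (.and (.not (.mem 2 (.mul (.l 6) (.l 3)))) (.and (.mem 3 (.l 4)) (.and (.mem 3 (.l 6)) (.and (.mem 3 (.mul (.l 6) (.l 3))) (.and (.mem 4 (.l 6)) (.and (.mem 2 (.mul (.l 4) (.l 3))) (.and (.one (.mul (.l 4) (.l 4))) (.and (.one (.mul (.l 6) (.l 6))) (.one (.mul (.mul (.mul (.l 6) (.l 3)) (.l 6)) (.l 3))))))))))))) = true := by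
  decide +kernel

theorem m00_nm {G : Type*} [Group G] {γ : ℕ → G} (h : IsoW m00.gam γ) :
    γ 4 ∉ genW γ (m00.ws 4) ∧ γ 6 ∉ genW γ (m00.ws 2) ∧ γ 6 * γ 3 ∉ genW γ (m00.ws 2) ∧ γ 4 ∈ genW γ (m00.ws 3) ∧ γ 6 ∈ genW γ (m00.ws 3) ∧ γ 6 * γ 3 ∈ genW γ (m00.ws 3) ∧ γ 6 ∈ genW γ (m00.ws 4) ∧ γ 4 * γ 3 ∈ genW γ (m00.ws 2) ∧ γ 4 * γ 4 = 1 ∧ γ 6 * γ 6 = 1 ∧ γ 6 * γ 3 * γ 6 * γ 3 = 1 :=
  m00_ok.transfer h m00_nm_ev

theorem m00_le_ev : m00.eval (.and (.all 4 40 [] (.mem 3 (.l 40))) (.and (.all 2 40 [] (.mem 4 (.l 40))) (.and (.all 5 40 [] (.mem 2 (.l 40))) (.and (.all 6 40 [] (.mem 2 (.l 40))) (.all 11 40 [] (.and (.mem 5 (.l 40)) (.mem 6 (.l 40)))))))) = true := by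
  decide +kernel

theorem m00_le {G : Type*} [Group G] {γ : ℕ → G} (h : IsoW m00.gam γ) :
    (∀ x ∈ genW γ (m00.ws 4), x ∈ genW γ (m00.ws 3)) ∧ (∀ x ∈ genW γ (m00.ws 2), x ∈ genW γ (m00.ws 4)) ∧ (∀ x ∈ genW γ (m00.ws 5), x ∈ genW γ (m00.ws 2)) ∧ (∀ x ∈ genW γ (m00.ws 6), x ∈ genW γ (m00.ws 2)) ∧ (∀ x ∈ genW γ (m00.ws 11), x ∈ genW γ (m00.ws 5) ∧ x ∈ genW γ (m00.ws 6)) :=
  m00_ok.transfer h m00_le_ev

theorem m00_sw_ev : m00.eval (.and (.all 5 40 [] (.mem 6 (.mul (.mul (.l 1) (.l 40)) (.inv (.l 1))))) (.and (.all 6 40 [] (.mem 5 (.mul (.mul (.l 1) (.l 40)) (.inv (.l 1))))) (.all 0 40 [] (.all 11 41 [] (.mem 11 (.mul (.mul (.l 40) (.l 41)) (.inv (.l 40)))))))) = true := by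
  decide +kernel

theorem m00_sw {G : Type*} [Group G] {γ : ℕ → G} (h : IsoW m00.gam γ) :
    (∀ x ∈ genW γ (m00.ws 5), γ 1 * x * (γ 1)⁻¹ ∈ genW γ (m00.ws 6)) ∧ (∀ x ∈ genW γ (m00.ws 6), γ 1 * x * (γ 1)⁻¹ ∈ genW γ (m00.ws 5)) ∧ (∀ y ∈ genW γ (m00.ws 0), ∀ x ∈ genW γ (m00.ws 11), y * x * y⁻¹ ∈ genW γ (m00.ws 11)) :=
  m00_ok.transfer h m00_sw_ev

theorem m00_zv_ev : m00.eval (.and (.eq (.mul (.mul (.l 1) (.mul (.mul (.mul (.l 1) (.l 2)) (.l 3)) (.l 4))) (.inv (.l 1))) (.mul (.mul (.mul (.mul (.l 1) (.l 2)) (.l 3)) (.l 4)) (.l 5))) (.and (.eq (.mul (.mul (.mul (.mul (.l 1) (.l 2)) (.l 3)) (.l 4)) (.l 5)) (.mul (.l 5) (.mul (.mul (.mul (.l 1) (.l 2)) (.l 3)) (.l 4)))) (.and (.one (.mul (.mul (.mul (.mul (.l 1) (.l 2)) (.l 3)) (.l 4)) (.mul (.mul (.mul (.l 1) (.l 2)) (.l 3)) (.l 4)))) (.and (.not (.one (.mul (.mul (.mul (.l 1) (.l 2)) (.l 3)) (.l 4)))) (.and (.not (.eq (.mul (.mul (.mul (.l 1) (.l 2))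 (.l 3)) (.l 4)) (.l 5))) (.mem 11 (.l 5))))))) = true := by
  decide +kernel

theorem m00_zv {G : Type*} [Group G] {γ : ℕ → G} (h : IsoW m00.gam γ) :
    γ 1 * (γ 1 * γ 2 * γ 3 * γ 4) * (γ 1)⁻¹ = γ 1 * γ 2 * γ 3 * γ 4 * γ 5 ∧ γ 1 * γ 2 * γ 3 * γ 4 * γ 5 = γ 5 * (γ 1 * γ 2 * γ 3 * γ 4) ∧ γ 1 * γ 2 * γ 3 * γ 4 * (γ 1 * γ 2 * γ 3 * γ 4) = 1 ∧ γ 1 * γ 2 * γ 3 * γ 4 ≠ 1 ∧ γ 1 * γ 2 * γ 3 * γ 4 ≠ γ 5 ∧ γ 5 ∈ genW γ (m00.ws 11) :=
  m00_ok.transfer h m00_zv_ev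

theorem sy7 : sylB m00 7 8 5 4 (.l 5) (.l 4) (.mul (.mul (.l 1) (.l 3)) (.l 6))
    [.mul (.l 7) (.l 8), .mul (.mul (.l 1) (.l 7)) (.l 8), .mul (.mul (.mul (.l 2) (.l 6)) (.l 7)) (.l 8), .l 0, .mul (.l 1) (.l 8), .l 8, .mul (.mul (.l 6) (.l 7)) (.l 8), .l 1] = true := by decide +kernel

theorem sy9 : sylB m00 9 9 5 4 (.l 5) (.l 6) (.mul (.l 3) (.l 8))
    [.mul (.mul (.mul (.l 1) (.l 4)) (.l 8)) (.l 7), .mul (.l 1) (.l 7), .mul (.mul (.mul (.mul (.l 4) (.l 7)) (.l 6)) (.l 8)) (.l 7), .mul (.mul (.mul (.mul (.l 3) (.l 7)) (.l 6)) (.l 8)) (.l 7), .mul (.l 3) (.l 7), .mul (.l 8) (.l 7), .mul (.mul (.mul (.l 7) (.l 6)) (.l 8)) (.l 7), .mul (.mul (.l 2) (.l 6)) (.l 7), .mul (.mul (.mul (.l 2) (.l 6)) (.l 8)) (.l 7), .mul (.l 6) (.l 7), .l 0, .l 7, .mul (.mul (.l 6) (.l 8)) (.l 7), .mul (.mul (.l 1) (.l 8)) (.l 7), .l 1, .mul (.mul (.mul (.mul (.l 2) (.l 4)) (.l 6)) (.l 8)) (.l 7), .mul (.mul (.l 4) (.l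 8)) (.l 7), .l 2, .mul (.mul (.mul (.mul (.mul (.l 3) (.l 4)) (.l 7)) (.l 6)) (.l 8)) (.l 7), .mul (.mul (.mul (.l 4) (.l 6)) (.l 8)) (.l 7), .mul (.mul (.l 3) (.l 6)) (.l 7), .mul (.mul (.mul (.l 2) (.l 3)) (.l 6)) (.l 7), .mul (.mul (.l 1) (.l 3)) (.l 7), .mul (.l 1) (.l 2)] = true := by decide +kernel

theorem sy10 : sylB m00 10 10 4 2 (.l 5) (.mul (.l 6) (.l 3)) (.mul (.mul (.l 1) (.l 2)) (.l 4))
    [.mul (.l 2) (.l 8), .l 0, .mul (.mul (.mul (.mul (.l 6) (.l 7)) (.l 6)) (.l 8)) (.l 7), .mul (.mul (.mul (.mul (.l 3) (.l 7)) (.l 6)) (.l 8)) (.l 7), .mul (.l 3) (.l 7), .mul (.l 7) (.l 8), .mul (.mul (.l 6) (.l 7)) (.l 8), .mul (.mul (.l 2) (.l 6)) (.l 7), .mul (.mul (.mul (.l 2) (.l 6)) (.l 8)) (.l 7), .mul (.mul (.mul (.mul (.l 1) (.l 6)) (.l 7)) (.l 8)) (.l 7), .mul (.mul (.mul (.mul (.mul (.l 3) (.l 6)) (.l 7)) (.l 6)) (.l 8)) (.l 7), .mul (.mul (.mul (.mul (.l 2) (.l 7)) (.l 6)) (.l 8)) (.l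 7), .l 8, .l 1, .mul (.mul (.l 3) (.l 8)) (.l 7), .mul (.mul (.mul (.l 1) (.l 7)) (.l 8)) (.l 7), .mul (.mul (.l 4) (.l 8)) (.l 7), .mul (.mul (.mul (.l 2) (.l 7)) (.l 8)) (.l 7), .mul (.mul (.mul (.l 2) (.l 6)) (.l 7)) (.l 8), .mul (.mul (.l 4) (.l 6)) (.l 7), .mul (.mul (.l 3) (.l 7)) (.l 8), .mul (.l 4) (.l 7), .mul (.mul (.mul (.mul (.l 4) (.l 6)) (.l 7)) (.l 8)) (.l 7), .mul (.mul (.mul (.l 3) (.l 6)) (.l 8)) (.l 7), .mul (.l 6) (.l 7), .mul (.mul (.mul (.l 3) (.l 6)) (.l 7)) (.l 8), .mul (.mul (.l 7) (.l 8)) (.l 7), .mul (.mul (.l 1) (.l 8)) (.l 7), .l 4, .mul (.l 1) (.l 8), .mul (.mul (.mul (.mul (.l 4) (.l 7)) (.l 6)) (.l 8)) (.l 7), .mul (.mul (.mul (.mul (.mul (.l 1) (.l 6)) (.l 7)) (.l 6)) (.l 8)) (.l 7), .mul (.mul (.mul (.l 7) (.l 6)) (.l 8)) (.l 7), .mul (.mul (.mul (.mul (.mul (.l 4) (.l 6)) (.l 7)) (.l 6)) (.l 8)) (.l 7), .l 2, .mul (.l 3) (.l 8), .mul (.mul (.mul (.l 6) (.l 7)) (.l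 8)) (.l 7), .mul (.mul (.mul (.l 4) (.l 6)) (.l 8)) (.l 7), .mul (.mul (.mul (.l 4) (.l 7)) (.l 8)) (.l 7), .mul (.l 8) (.l 7), .mul (.mul (.l 2) (.l 7)) (.l 8), .mul (.l 1) (.l 7), .mul (.mul (.l 3) (.l 6)) (.l 7), .mul (.mul (.mul (.l 1) (.l 6)) (.l 7)) (.l 8), .mul (.mul (.l 6) (.l 8)) (.l 7), .mul (.mul (.mul (.mul (.l 2) (.l 6)) (.l 7)) (.l 8)) (.l 7), .l 7, .mul (.mul (.l 1) (.l 7)) (.l 8)] = true := by decide +kernel

/-- squares and commutator -/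
def x01 : List W := [.mul (.l 6) (.l 6), .mul (.l 7) (.l 7), .mul (.l 8) (.l 8), .mul (.mul (.mul (.mul (.l 6) (.l 8)) (.inv (.l 6))) (.inv (.l 8))) (.l 5)]

/-- all relators -/
def rel01 : List W := relE ++ relA ++ x01

/-- inverse letters -/
def tc01_iv : ℕ := 296335229793175584

/-- inverse letters -/
def tc01_labs : List W := [.l 0, .l 1, .l 2, .l 3, .l 4, .l 5, .l 6, .l 7, .l 8, .inv (.l 6), .inv (.l 7), .inv (.l 8)]

def tc01_F : Tr := .leaf (nat_lit 0x5dd163d557554f75d9172dcb725c971dc7715c570dc374d0d73cd5654cf62d8b6258961d876158560d8364c8d65d5115c5152d4b5254951d475154550d4354c0d5449745c9142d0b4250941d074150540d03453cf45cd0e5b9132ccb324c931cc7314c530cc334b4d32c8b2248921c872148520c832530f23b951538f12c4b1244911c471144510c4314acd142d705ad102c0b0240901c070140500c030528f033d2a3292f2bcaf23c8f1bc6f13c4f0bc2f5a50f2b8ae2388e1b86e1384e0b82e4a0ce4216d5a10d2b4ad2348d1b46d1344d0b42d51ced3312731d2c2b0ac23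08c1b06c1304c0b02c5990c2acab22c8b1ac6b12c4b0ac2b514eb2a8aa2288a1a86a1284a0a82a5910a39949518e92a4a9224891a469124490a429490c92a0a8220881a068120480a02850ce829ca721c8719c6711c4709c2758907298a621886198661184609826488c63152330d25294a52148519465114450942558505290a421084190641104409024504e428ca320c8318c6310c4308c2358103288a220882188621084208822500e2284a120481184611044108421480c1280a0200801806010040080204dcd44d8d24d4d0550ef4cccd548ec4c4cb540ea5bd094b8c8534e75b10652ce55a9044a4c4520e359d02498c259501510e158d00508e0484c000000)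
def tc01_T : Tr := .leaf (nat_lit 0xbdab49ca307b9ac5a928398a418820)
def tc01_P : Tr := .node (.node (.node (.leaf (nat_lit 0x30e8880b0041e0500872070041e0511416004300a2082c008541443058010a0287e0b00213050f416004240a0001d04114120042e082182400844103f048010802082090020f040f4120041c080001c030e40e00430061a81c008540c37038010a018660700213030c40e00424060001d020e40a0042e041b81400844083302801080106a050020f020c40a0041c040001c010e4060042c021b80c008340435018010600862030020b010cc0600414020001b))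
  (.leaf (nat_lit 0x175245e0042c2ea38bc008345d4517801060ba822f0020b1750c5e004142e0001b16091a61b138030c8b246d40dcb800864592d168010b0b2562d0020d164a45a004182c928b40082c592716801050b00006c44c4880ac00878550d8788c00878550d158010b0aa162b0020d1542456004182a828ac0082c550715801050a80006c501e568644a00c342879aac33220021a143f4520042e287d8a40084450f714801080a1f2290020f143d4520041c280001c0e271c8270021e13385c61d0021e)))
  (.leaf (nat_lit 0xf29c3e004281e5187c0084c3ca10f8010907800074389d0e8010b071361d0020d0e2643a004181c4a8740082c38970e801050700006c340e0201c2200c341a4391c0e920021a0d244360042e1a4786c00844348b0d801080691a1b0020f0d224360041c1a0001c071e908190041e0c030a20f0041e0c214320043018408640085430830c8010a060fe19002130c1f43200424180001d0b1d42e0042e163985c008442c6f0b80108058e2170020f0b1b42e0041c160001c)))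
  (.node (.node (.leaf (nat_lit 0x28690a8010c050ca15002150a19c2a0042814318540084c28610a80109050000742408010141a00c32122f8ec0a7a00219091a4260042c123384c0083424650980106048c2130020b0918c2600414120001b08174220042e102d8440084420570880108040b2110020f08154220041c100001c071441e004300e2683c008541c4f078010a038960f00213071241e004240e0001d061441a0042c0c2783400834184d0680106030920d0020b0612c1a004140c0001b))
  (.leaf (nat_lit 0x7fc007fc007fc007fc007fc007fc007fc007fc007fc007fc007fc007fc007fc007fc007fc007fc007fc007fc007fc007fc007fc007fc007fc007fc007fc007fc007fc007fc592ca60bc008785c287f8845600c322e9fc00434e0021917526962d0021e)))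
  (.leaf (nat_lit 0x4ce1138010b099be270020d133744e00418266c89c0082c4cdb13801050980006c48d1128010b8919e25002111232c4a0042024668940083c48c912801070900007044163b8443a00c32225d9e022e60021911314460042c226188c0083444c111801060897a230020b112fc4600414220001b10050100b0b8030d0815e5f05ae80086840b9108010b8816e2100211102cc4200420205a8840083c40b1108010708000070289e5407c010783c1234854010783ca90f8010c0794a1f00215)))
def tc01_N_0 : Tr := .node (.node (.node (.node (.leaf (nat_lit 5309505))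
  (.leaf (nat_lit 0)))
  (.leaf (nat_lit 33)))
  (.node (.leaf (nat_lit 75879))
  (.leaf (nat_lit 9222))))
  (.node (.node (.leaf (nat_lit 103525))
  (.leaf (nat_lit 132)))
  (.node (.leaf (nat_lit 175272))
  (.leaf (nat_lit 201))))
def tc01_N_1 : Tr := .node (.node (.node (.node (.leaf (nat_lit 5375105))
  (.leaf (nat_lit 66)))
  (.node (.leaf (nat_lit 44072))
  (.leaf (nat_lit 327))))
  (.node (.node (.leaf (nat_lit 74790))
  (.leaf (nat_lit 4100)))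
  (.node (.leaf (nat_lit 379952391))
  (.leaf (nat_lit 234)))))
  (.node (.node (.node (.leaf (nat_lit 37925))
  (.leaf (nat_lit 99)))
  (.node (.leaf (nat_lit 173222))
  (.leaf (nat_lit 11272))))
  (.node (.node (.leaf (nat_lit 43047))
  (.leaf (nat_lit 294)))
  (.node (.leaf (nat_lit 5612806))
  (.leaf (nat_lit 267)))))
def tc01_N_2 : Tr := .node (.node (.node (.node (.leaf (nat_lit 5342305))
  (.leaf (nat_lit 0)))
  (.leaf (nat_lit 1025)))
  (.node (.leaf (nat_lit 141447))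
  (.leaf (nat_lit 327))))
  (.node (.node (.leaf (nat_lit 136325))
  (.leaf (nat_lit 132)))
  (.node (.leaf (nat_lit 345315558))
  (.leaf (nat_lit 6153))))
def tc01_N_3 : Tr := .node (.node (.node (.node (.leaf (nat_lit 5343330))
  (.leaf (nat_lit 66)))
  (.node (.leaf (nat_lit 76872))
  (.leaf (nat_lit 10247))))
  (.node (.node (.leaf (nat_lit 42054))
  (.leaf (nat_lit 165)))
  (.node (.leaf (nat_lit 198))
  (.leaf (nat_lit 234)))))
  (.node (.node (.node (.leaf (nat_lit 70725))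
  (.leaf (nat_lit 3075)))
  (.node (.leaf (nat_lit 174247))
  (.leaf (nat_lit 201))))
  (.node (.node (.leaf (nat_lit 108615))
  (.leaf (nat_lit 294)))
  (.node (.leaf (nat_lit 33))
  (.leaf (nat_lit 8203)))))
def tc01_N : Tr := .node (.node (.node tc01_N_0
  (.node (.node (.node (.leaf (nat_lit 5376130))
  (.leaf (nat_lit 2050)))
  (.node (.leaf (nat_lit 142440))
  (.leaf (nat_lit 360))))
  (.node (.node (.leaf (nat_lit 107622))
  (.leaf (nat_lit 165)))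
  (.node (.leaf (nat_lit 231))
  (.leaf (nat_lit 7178))))))
  tc01_N_1)
  (.node (.node tc01_N_2
  (.node (.node (.node (.leaf (nat_lit 5377155))
  (.leaf (nat_lit 99)))
  (.node (.leaf (nat_lit 109704))
  (.leaf (nat_lit 360))))
  (.node (.node (.leaf (nat_lit 140422))
  (.leaf (nat_lit 5125)))
  (.node (.leaf (nat_lit 264))
  (.leaf (nat_lit 267))))))
  tc01_N_3)
noncomputable def tc01 : TC :=
  ⟨[.l 0, .l 1, .l 2, .l 3, .l 4, .l 5, .l 6, .l 7, .l 8, .l 9, .l 10, .l 11],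
    (nat_lit 5), (nat_lit 9), (nat_lit 0x41ccb524a418820), (nat_lit 63), (nat_lit 24), (nat_lit 5), (nat_lit 32), (nat_lit 6), (nat_lit 66),
    get (nat_lit 10) (nat_lit 0x1003010030080400c02010030080400c02010030080400c02010030080400c02010030080400c020100300805008020080601804010040100401004010040100401004010040100401004014050140501405), Tr.get tc01_N, get (nat_lit 20) (nat_lit 0x3ff003ff003ff003ff003ff003ff003ff003ff003ff003ff003ff003ff003ff003ff003ff003ff003ff003ff003ff003ff003ff003ff003ff003ff003ff003ff003ff003ff003ff003ff003ff003ff003ff003ff003ff000230002200021000200001f0001e0001d0001c0001b0001a000190001800017000160001500014000130001200011000100000f0000e0000d0000c0000b0000a0000900008000070000600005),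
    Tr.get3 tc01_F (nat_lit 20) (nat_lit 5), Tr.get3 tc01_T (nat_lit 5) (nat_lit 7), Tr.get tc01_P⟩

theorem tc01_head : tc01.headOK rel01 tc01_iv = true := by decide +kernel

theorem tc01_b0 : allFrom (nat_lit 0) (nat_lit 6) tc01.blockOK = true := by decide +kernel

def tc01_Q8 : Tr := .leaf (nat_lit 0xbd602b54a9d536b90e794f1c4c688ab83ce543060d414290381406)
theorem tc01_f8_0 : allFrom (nat_lit 0) (nat_lit 24) (tc01.finOK (nat_lit 24) (Tr.get3 tc01_Q8 (nat_lit 9) (nat_lit 6)) (nat_lit 8)) = true := by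
  decide +kernel

def tc01_Q7 : Tr := .leaf (nat_lit 0xbe5aaff3eb6c8a3d0214485ac245d08154920d2b42c5e081181004)
theorem tc01_f7_0 : allFrom (nat_lit 0) (nat_lit 24) (tc01.finOK (nat_lit 24) (Tr.get3 tc01_Q7 (nat_lit 9) (nat_lit 6)) (nat_lit 7)) = true := by
  decide +kernel

def tc01_Q6 : Tr := .leaf (nat_lit 0xb757a9c2e970b2242a80b984cd5113fd3c1c699e8f2123b8307402)
theorem tc01_f6_0 : allFrom (nat_lit 0) (nat_lit 24) (tc01.finOK (nat_lit 24) (Tr.get3 tc01_Q6 (nat_lit 9) (nat_lit 6)) (nat_lit 6)) = true := by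
  decide +kernel

def tc01_Q5 : Tr := .leaf (nat_lit 0xbc5a2b1489c4b2390c7e3c1c0d0622e1509c48210e8682e1408838)
theorem tc01_f5_0 : allFrom (nat_lit 0) (nat_lit 24) (tc01.finOK (nat_lit 24) (Tr.get3 tc01_Q5 (nat_lit 9) (nat_lit 6)) (nat_lit 5)) = true := by
  decide +kernel

def tc01_Q4 : Tr := .leaf (nat_lit 0xbb59aad469b4aa350a7d3b9bcce612d94c9a47208e4662d1388436)
theorem tc01_f4_0 : allFrom (nat_lit 0) (nat_lit 24) (tc01.finOK (nat_lit 24) (Tr.get3 tc01_Q4 (nat_lit 9) (nat_lit 6)) (nat_lit 4)) = true := by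
  decide +kernel

def tc01_Q3 : Tr := .leaf (nat_lit 0xba592a9449a4a231087c3b1b8cc602d1489846200e0642c1308034)
theorem tc01_f3_0 : allFrom (nat_lit 0) (nat_lit 24) (tc01.finOK (nat_lit 24) (Tr.get3 tc01_Q3 (nat_lit 9) (nat_lit 6)) (nat_lit 3)) = true := by
  decide +kernel

def tc01_Q2 : Tr := .leaf (nat_lit 0xb958aa5429949a2d067b3a9b4ca5f2c94496451f8dc622b1287c32)
theorem tc01_f2_0 : allFrom (nat_lit 0) (nat_lit 24) (tc01.finOK (nat_lit 24) (Tr.get3 tc01_Q2 (nat_lit 9) (nat_lit 6)) (nat_lit 2)) = true := by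
  decide +kernel

def tc01_Q1 : Tr := .leaf (nat_lit 0xb8582a1409849229047a3a1b0c85e2c14094441f0d8602a1207830)
theorem tc01_f1_0 : allFrom (nat_lit 0) (nat_lit 24) (tc01.finOK (nat_lit 24) (Tr.get3 tc01_Q1 (nat_lit 9) (nat_lit 6)) (nat_lit 1)) = true := by
  decide +kernel

theorem tc01_blocks : ∀ t < tc01.k, tc01.blockOK t = true :=
  (of_allFrom_append of_lt_zero tc01_b0)

/-- index 24 max 24 total 24 facts 193 | needed cosets 24 facts 193 steps 486 trivial 0 -/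
theorem tc01_index {G : Type*} [Group G] {γ : ℕ → G} (hL : Lab γ tc01_iv) (hr : ∀ t ∈ rel01, t.ev γ = 1) {K : Subgroup G}
    (hK : ∀ t ∈ ([.l 1, .l 2, .l 3, .l 4, .l 5] : List W), t.ev γ ∈ K) :
    K.relIndex (genW γ [.l 1, .l 2, .l 3, .l 4, .l 5, .l 6, .l 7, .l 8]) ≠ 0 ∧ K.relIndex (genW γ [.l 1, .l 2, .l 3, .l 4, .l 5, .l 6, .l 7, .l 8]) ≤ 24 :=
  TC.relIndex_le (D := tc01) (gens := [1, 2, 3, 4, 5, 6, 7, 8]) hL (List.forall_mem_cons.2 ⟨hL.zero_mem K, hK⟩) hr tc01_head tc01_blocks (by decide) (by decide)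
   (List.forall_mem_cons.2 ⟨⟨_, (of_allFrom_append of_lt_zero tc01_f1_0)⟩,
    List.forall_mem_cons.2 ⟨⟨_, (of_allFrom_append of_lt_zero tc01_f2_0)⟩,
    List.forall_mem_cons.2 ⟨⟨_, (of_allFrom_append of_lt_zero tc01_f3_0)⟩,
    List.forall_mem_cons.2 ⟨⟨_, (of_allFrom_append of_lt_zero tc01_f4_0)⟩,
    List.forall_mem_cons.2 ⟨⟨_, (of_allFrom_append of_lt_zero tc01_f5_0)⟩,
    List.forall_mem_cons.2 ⟨⟨_, (of_allFrom_append of_lt_zero tc01_f6_0)⟩,
    List.forall_mem_cons.2 ⟨⟨_, (of_allFrom_append of_lt_zero tc01_f7_0)⟩,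
    List.forall_mem_cons.2 ⟨⟨_, (of_allFrom_append of_lt_zero tc01_f8_0)⟩,
    fun _ h => absurd h List.not_mem_nil⟩⟩⟩⟩⟩⟩⟩⟩)

theorem tc01_idx {G : Type*} [Group G] {γ : ℕ → G} (h0 : γ 0 = 1) (hr : ∀ t ∈ rel01, t.ev γ = 1) {K : Subgroup G}
    (hK : ∀ t ∈ ([.l 1, .l 2, .l 3, .l 4, .l 5] : List W), t.ev γ ∈ K) :
    K.relIndex (genW γ [.l 1, .l 2, .l 3, .l 4, .l 5, .l 6, .l 7, .l 8]) ≠ 0 ∧ K.relIndex (genW γ [.l 1, .l 2, .l 3, .l 4, .l 5, .l 6, .l 7, .l 8]) ≤ 24 := by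
  have a := lab_of_rels h0 hr (iv := tc01_iv) (labs := tc01_labs) (by decide +kernel)
  have b := tc01_index a.1 a.2 (mems_fix (by decide +kernel) hK)
  rwa [genW_fix (by decide +kernel)] at b

theorem tb01 : TB rel01 [.l 1, .l 2, .l 3, .l 4, .l 5, .l 6, .l 7, .l 8] (24 * 32) := fun _ _ δ h0 hr =>
  card_le_of_relIndex (ov_le h0) (tc01_idx h0 hr fun _ => mem_genW δ)
    (tcE_tb _ δ h0 (List.forall_mem_append.1 (List.forall_mem_append.1 hr).1).1)

def m01_L0 : List (ℕ × List ℕ) := [((nat_lit 0), [(nat_lit 0xfedcba9876543210), (nat_lit 0x8472356fd9aebc01), (nat_lit 0x935a6cf41bd8e072), (nat_lit 0x5de4ab2167fc0983), (nat_lit 0xca8f2e1d35607b94), (nat_lit 0x392781ebc406fda5), (nat_lit 0xcdef182a304579b6), (nat_lit 0x4810edb95fc36a27), (nat_lit 0x1c690f75e2bda438), (nat_lit 0xd03b765c81ea2f49), (nat_lit 0xb6cdf0432e19875a), (nat_lit 0xa539740ce28d1f6b), (nat_lit 0xf9a0bde85476312c), (nat_lit 0xef014736a82b95cd),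 (nat_lit 0xd538c607b19a2f4e), (nat_lit 0x29618da4c375ebf)]),
  ((nat_lit 1), [(nat_lit 0xfedcba9876543210), (nat_lit 0xd84e71bc9f5326a0), (nat_lit 0xfba7ed89c4563120), (nat_lit 0xa96bc2e78f5314d0), (nat_lit 0xd71984cbe35f2a60), (nat_lit 0x691bcfe78d524a30), (nat_lit 0x1bf7e689cd52a340), (nat_lit 0x172983cbe654adf0)]),
  ((nat_lit 2), [(nat_lit 0xfedcba9876543210), (nat_lit 0x4c389a7ebd526f10), (nat_lit 0x37498acbe25df610), (nat_lit 0x286e7abc935fd410), (nat_lit 0xd9fbcae784562310), (nat_lit 0x6b27ea89cf534d10)])]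

def m01_D0 : List ℕ := [(nat_lit 0), (nat_lit 513), (nat_lit 1025), (nat_lit 1537), (nat_lit 2049), (nat_lit 2561), (nat_lit 3073), (nat_lit 164866), (nat_lit 175618), (nat_lit 186370), (nat_lit 197122), (nat_lit 207874), (nat_lit 219138), (nat_lit 250370), (nat_lit 283650), (nat_lit 297474), (nat_lit 0), (nat_lit 30655235), (nat_lit 17954051), (nat_lit 2357106948), (nat_lit 2735339268), (nat_lit 3024933124), (nat_lit 3460202244), (nat_lit 3802393860), (nat_lit 0), (nat_lit 4238058244), (nat_lit 358611131653), (nat_lit 4033912068), (nat_lit 39076201283846), (nat_lit 603759186693)]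

def m01 : PM :=
  ⟨(nat_lit 16), (nat_lit 4), [(nat_lit 0x8472356fd9aebc01), (nat_lit 0x935a6cf41bd8e072), (nat_lit 0x5de4ab2167fc0983), (nat_lit 0xca8f2e1d35607b94), (nat_lit 0x392781ebc406fda5), (nat_lit 0xcdef182a304579b6), (nat_lit 0x8acd3e1f2045b796), (nat_lit 0x8651374faed9b0c2)],
    [[.l 1, .l 2, .l 3, .l 4, .l 5, .l 6, .l 7, .l 8]],
    [m01_L0], [m01_D0]⟩

instance m01_ne : NeZero m01.n := ⟨by decide⟩

theorem m01_ok0 : m01.ok0 = true := by decide +kernel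

theorem m01_k0 : allFrom (nat_lit 0) (nat_lit 1) m01.okK = true := by decide +kernel

theorem m01_ok : m01.OK := PM.OK.of_check m01_ok0
  (of_allFrom_append of_lt_zero m01_k0)

theorem m01_card0 : Nat.card (genW m01.gam (m01.ws 0)) = 768 := (m01_ok.card 0).trans (by decide +kernel)

theorem m01_s1_ev : m01.eval (.all 0 40 [] (.imp (.one (.mul (.l 40) (.l 40))) (.ex 0 41 [(.l 40, .l 40)] (.eq (.mul (.l 41) (.l 41)) (.l 5))))) = true := by
  decide +kernel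

theorem m01_s1 {G : Type*} [Group G] {γ : ℕ → G} (h : IsoW m01.gam γ) :
    ∀ y ∈ genW γ (m01.ws 0), y * y = 1 → ∃ x ∈ genW γ (m01.ws 0), x * y = y * x ∧ x * x = γ 5 :=
  m01_ok.transfer h m01_s1_ev

theorem m01_s2_ev : m01.eval (.all 0 40 [] (.imp (.one (.pow (.l 40) 4)) (.or (.one (.mul (.l 40) (.l 40))) (.or (.eq (.mul (.l 40) (.l 40)) (.l 5)) (.ex 0 41 [(.mul (.mul (.mul (.l 1) (.l 2)) (.l 3)) (.l 4), .mul (.l 40) (.l 40))] (.tt)))))) = true := by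
  decide +kernel

theorem m01_s2 {G : Type*} [Group G] {γ : ℕ → G} (h : IsoW m01.gam γ) :
    ∀ x ∈ genW γ (m01.ws 0), x ^ 4 = 1 → x * x = 1 ∨ x * x = γ 5 ∨ (∃ k ∈ genW γ (m01.ws 0), k * (γ 1 * γ 2 * γ 3 * γ 4) = x * x * k ∧ True) :=
  m01_ok.transfer h m01_s2_ev

theorem m01_v1_ev : m01.eval (.ex 0 40 [(.mul (.mul (.mul (.l 1) (.l 2)) (.l 3)) (.l 4), .mul (.mul (.mul (.l 1) (.l 2)) (.l 3)) (.l 4))] (.and (.eq (.mul (.l 40) (.l 40)) (.l 5)) (.ex 0 41 [(.mul (.mul (.mul (.l 1) (.l 2)) (.l 3)) (.l 4), .mul (.mul (.mul (.l 1) (.l 2)) (.l 3)) (.l 4))] (.and (.eq (.mul (.l 41) (.l 41)) (.l 5)) (.eq (.mul (.mul (.mul (.l 40) (.l 41)) (.l 40)) (.l 41)) (.mul (.mul (.mul (.l 1) (.l 2)) (.l 3)) (.l 4))))))) = true := by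
  decide +kernel

theorem m01_v1 {G : Type*} [Group G] {γ : ℕ → G} (h : IsoW m01.gam γ) :
    ∃ x ∈ genW γ (m01.ws 0), x * (γ 1 * γ 2 * γ 3 * γ 4) = γ 1 * γ 2 * γ 3 * γ 4 * x ∧ x * x = γ 5 ∧ (∃ y ∈ genW γ (m01.ws 0), y * (γ 1 * γ 2 * γ 3 * γ 4) = γ 1 * γ 2 * γ 3 * γ 4 * y ∧ y * y = γ 5 ∧ x * y * x * y = γ 1 * γ 2 * γ 3 * γ 4) :=
  m01_ok.transfer h m01_v1_ev

theorem m01_v2_ev : m01.eval (.all 0 40 [(.mul (.mul (.mul (.l 1) (.l 2)) (.l 3)) (.l 4), .mul (.mul (.mul (.l 1) (.l 2)) (.l 3)) (.l 4))] (.imp (.eq (.mul (.l 40) (.l 40)) (.mul (.mul (.mul (.l 1) (.l 2)) (.l 3)) (.l 4))) (.all 0 41 [(.mul (.mul (.mul (.l 1) (.l 2)) (.l 3)) (.l 4), .mul (.mul (.mul (.l 1) (.l 2)) (.l 3)) (.l 4))] (.imp (.eq (.mul (.l 41) (.l 41)) (.mul (.mul (.mul (.l 1) (.l 2)) (.l 3)) (.l 4))) (.not (.eq (.mul (.mul (.mul (.l 40) (.l 41)) (.l 40)) (.l 41)) (.l 5))))))) = true := by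
  decide +kernel

theorem m01_v2 {G : Type*} [Group G] {γ : ℕ → G} (h : IsoW m01.gam γ) :
    ∀ x ∈ genW γ (m01.ws 0), x * (γ 1 * γ 2 * γ 3 * γ 4) = γ 1 * γ 2 * γ 3 * γ 4 * x → x * x = γ 1 * γ 2 * γ 3 * γ 4 → ∀ y ∈ genW γ (m01.ws 0), y * (γ 1 * γ 2 * γ 3 * γ 4) = γ 1 * γ 2 * γ 3 * γ 4 * y → y * y = γ 1 * γ 2 * γ 3 * γ 4 → x * y * x * y ≠ γ 5 :=
  m01_ok.transfer h m01_v2_ev

/-- squares and commutator -/
def x10 : List W := [.mul (.mul (.l 6) (.l 6)) (.l 5), .mul (.mul (.l 7) (.l 7)) (.l 5), .mul (.mul (.l 8) (.l 8)) (.l 5), .mul (.mul (.mul (.l 6) (.l 8)) (.inv (.l 6))) (.inv (.l 8))]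

/-- all relators -/
def rel10 : List W := relE ++ relA ++ x10

/-- inverse letters -/
def tc10_iv : ℕ := 296335229793175584

/-- inverse letters -/
def tc10_labs : List W := [.l 0, .l 1, .l 2, .l 3, .l 4, .l 5, .l 6, .l 7, .l 8, .inv (.l 6), .inv (.l 7), .inv (.l 8)]

def tc10_F : Tr := .leaf (nat_lit 0x5dd163d557554f75d91725c971dc7715c570dc372dcb74d0d73cd5654cf6258961d876158560d8362d8b64c8d65d5115c515254951d475154550d4352d4b54c0d5449745c914250941d074150540d0342d0b453cf45cd0e5b91324c931cc7314c530cc332ccb34b4d3248921c872148520c8322c8b2530f23b951538f1244911c471144510c4312c4b14acd142d705ad10240901c070140500c0302c0b0528f033d2a3292f23c8f1bc6f13c4f0bc2f2bcaf5a50f2388e1b86e1384e0b82e2b8ae4a0ce4216d5a10d2348d1b46d1344d0b42d2b4ad51ced3312731d2c2308c1b06c1304c0b02c2b0ac5990c22c8b1ac6b12c4b0ac2b2acab514eb2288a1a86a1284a0a82a2a8aa5910a39949518e9224891a469124490a4292a4a9490c9220881a068120480a0282a0a850ce821c8719c6711c4709c2729ca75890721886198661184609826298a6488c63152330d2521485194651144509425294a55850521084190641104409024290a4504e420c8318c6310c4308c2328ca35810320882188621084208822288a2500e220481184611044108421284a1480c1280a0200801806010040080204dcd44d8d24d4d0550ef4cccd548ec4c4cb540ea5bd094b8c8534e75b10652ce55a9044a4c4520e359d02498c259501510e158d00508e0484c000000)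
def tc10_T : Tr := .leaf (nat_lit 0xbdab49ca307b9ac5a928398a418820)
def tc10_P : Tr := .node (.node (.node (.leaf (nat_lit 0xc3a058020f02804070041e0510c160042a0a2282c00850144105801098287e0b00212051a801074143d0021d041141200422082082400840104304801078207e090020e0417801070103d0021c030d40e0042a061b81c008500c33038010981862070021203148010740c390021d020dc0a004220419814008400835028010781062050020e021180107008390021c010dc060041a021a80c008300431018010580866030020a010e80106c04390021b))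
  (.leaf (nat_lit 0x175245e0041a2ea38bc008305d4317801058ba8a2f0020a175b80106c5d410021b16091a61b138030c8b246d40dcb800864592d16801068b2562d0020c1649c5a004162c948b400828595e0041b164940086c4510158010f0aa1e230021e15434560041a2a858ac00830550715801058aa122b0020a155380106c55050021b140795a19128030d0a1e6ab0cc880086850fd14801088a1f22900210143ec520041e287b8a400838513e0041c143d40087038e4138010f099c61d0021e)))
  (.leaf (nat_lit 0x3ca50f80109879461f002120f3c8010743ca10021d0e2743a0041a1c4d8740083038970e80105871321d0020a0e3980106c38950021b0d0380807088030d0690e4703a480086834910d801088691a1b002100d23c360041e1a4586c0083834d60041c0d224008701c7a0c8020f060180f0041e0c20c320042a18428640085030810c80109860fe19002120c31801074307d0021d0b1d42e00422163885c008402c730b80107858de170020e0b2e8010702c6d0021c)))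
  (.node (.node (.leaf (nat_lit 0x28670a8010a850d215002140a1942a0042614318540084828ae0041d0a184008742408010141a00c32122f8ec0a7a00219091a4260041a123384c0083024630980105848ca130020a092780106c24610021b081742200422102c84400840205b0880107840ae110020e082480107020550021c0713c1e0042a0e2883c008501c4d0780109838960f0021207218010741c490021d061441a0041a0c2783400830184b06801058309a0d0020a061e80106c18490021b))
  (.leaf (nat_lit 0x1ff001ff001ff001ff001ff001ff001ff001ff001ff001ff001ff001ff001ff001ff001ff001ff001ff001ff001ff001ff001ff001ff001ff001ff001ff001ff001ff001ff165305e0043c2e143fc422b00619174fe0021a70010c8ba962d0021e)))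
  (.leaf (nat_lit 0x133844e0041a266f89c008304cdb1380105899ba270020a134b80106c4cd90021b123444a0042224668940084048cf128010789196250020e124880107048c90021c11058ee110e8030c889767808b980086444c5118010688986230020c112fc4600416226088c0082845120041b112f40086c40140402c2e00c34205797c16ba0021a102e44200422205a8840084040b7108010788166210020e104080107040b10021c0a2783e0083c1e09054010783ca70f8010a879521f00214)))
def tc10_N_0 : Tr := .node (.node (.node (.node (.leaf (nat_lit 5309505))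
  (.leaf (nat_lit 0)))
  (.leaf (nat_lit 33)))
  (.node (.leaf (nat_lit 75879))
  (.leaf (nat_lit 9222))))
  (.node (.node (.leaf (nat_lit 103525))
  (.leaf (nat_lit 132)))
  (.node (.leaf (nat_lit 175272))
  (.leaf (nat_lit 201))))
def tc10_N_1 : Tr := .node (.node (.node (.node (.leaf (nat_lit 5375105))
  (.leaf (nat_lit 66)))
  (.node (.leaf (nat_lit 44072))
  (.leaf (nat_lit 327))))
  (.node (.node (.leaf (nat_lit 74790))
  (.leaf (nat_lit 4100)))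
  (.node (.leaf (nat_lit 379952391))
  (.leaf (nat_lit 234)))))
  (.node (.node (.node (.leaf (nat_lit 37925))
  (.leaf (nat_lit 99)))
  (.node (.leaf (nat_lit 173222))
  (.leaf (nat_lit 11272))))
  (.node (.node (.leaf (nat_lit 43047))
  (.leaf (nat_lit 294)))
  (.node (.leaf (nat_lit 369926))
  (.leaf (nat_lit 267)))))
def tc10_N_2 : Tr := .node (.node (.node (.node (.leaf (nat_lit 5342305))
  (.leaf (nat_lit 0)))
  (.leaf (nat_lit 1025)))
  (.node (.leaf (nat_lit 141447))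
  (.leaf (nat_lit 327))))
  (.node (.node (.leaf (nat_lit 136325))
  (.leaf (nat_lit 132)))
  (.node (.leaf (nat_lit 345315558))
  (.leaf (nat_lit 6153))))
def tc10_N_3 : Tr := .node (.node (.node (.node (.leaf (nat_lit 5343330))
  (.leaf (nat_lit 66)))
  (.node (.leaf (nat_lit 76872))
  (.leaf (nat_lit 10247))))
  (.node (.node (.leaf (nat_lit 42054))
  (.leaf (nat_lit 165)))
  (.node (.leaf (nat_lit 5318))
  (.leaf (nat_lit 234)))))
  (.node (.node (.node (.leaf (nat_lit 70725))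
  (.leaf (nat_lit 3075)))
  (.node (.leaf (nat_lit 174247))
  (.leaf (nat_lit 201))))
  (.node (.node (.leaf (nat_lit 108615))
  (.leaf (nat_lit 294)))
  (.node (.leaf (nat_lit 33))
  (.leaf (nat_lit 8203)))))
def tc10_N : Tr := .node (.node (.node tc10_N_0
  (.node (.node (.node (.leaf (nat_lit 5376130))
  (.leaf (nat_lit 2050)))
  (.node (.leaf (nat_lit 142440))
  (.leaf (nat_lit 360))))
  (.node (.node (.leaf (nat_lit 107622))
  (.leaf (nat_lit 165)))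
  (.node (.leaf (nat_lit 5351))
  (.leaf (nat_lit 7178))))))
  tc10_N_1)
  (.node (.node tc10_N_2
  (.node (.node (.node (.leaf (nat_lit 5377155))
  (.leaf (nat_lit 99)))
  (.node (.leaf (nat_lit 109704))
  (.leaf (nat_lit 360))))
  (.node (.node (.leaf (nat_lit 140422))
  (.leaf (nat_lit 5125)))
  (.node (.leaf (nat_lit 5384))
  (.leaf (nat_lit 267))))))
  tc10_N_3)
noncomputable def tc10 : TC :=
  ⟨[.l 0, .l 1, .l 2, .l 3, .l 4, .l 5, .l 6, .l 7, .l 8, .l 9, .l 10, .l 11],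
    (nat_lit 5), (nat_lit 9), (nat_lit 0x41ccb524a418820), (nat_lit 63), (nat_lit 24), (nat_lit 5), (nat_lit 32), (nat_lit 6), (nat_lit 66),
    get (nat_lit 10) (nat_lit 0x1003010030080400c02010030080400c02010030080400c02010030080400c02010030080400c02010030080400c0300c0601804010040100401004010040100401004010040100401004014050140501405), Tr.get tc10_N, get (nat_lit 20) (nat_lit 0x3ff003ff003ff003ff003ff003ff003ff003ff003ff003ff003ff003ff003ff003ff003ff003ff003ff003ff003ff003ff003ff003ff003ff003ff003ff003ff003ff003ff003ff003ff003ff003ff003ff003ff003ff000230002200021000200001f0001e0001d0001c0001b0001a000190001800017000160001500014000130001200011000100000f0000e0000d0000c0000b0000a0000900008000070000600005),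
    Tr.get3 tc10_F (nat_lit 20) (nat_lit 5), Tr.get3 tc10_T (nat_lit 5) (nat_lit 7), Tr.get tc10_P⟩

theorem tc10_head : tc10.headOK rel10 tc10_iv = true := by decide +kernel

theorem tc10_b0 : allFrom (nat_lit 0) (nat_lit 6) tc10.blockOK = true := by decide +kernel

def tc10_Q8 : Tr := .leaf (nat_lit 0xbd602b54a9d536b90e794f1c4c688ab83ce543060d414290381406)
theorem tc10_f8_0 : allFrom (nat_lit 0) (nat_lit 24) (tc10.finOK (nat_lit 24) (Tr.get3 tc10_Q8 (nat_lit 9) (nat_lit 6)) (nat_lit 8)) = true := by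
  decide +kernel

def tc10_Q7 : Tr := .leaf (nat_lit 0xbe5aaff3eb6c8a3d0214485ac245d08154920d2b42c5e081181004)
theorem tc10_f7_0 : allFrom (nat_lit 0) (nat_lit 24) (tc10.finOK (nat_lit 24) (Tr.get3 tc10_Q7 (nat_lit 9) (nat_lit 6)) (nat_lit 7)) = true := by
  decide +kernel

def tc10_Q6 : Tr := .leaf (nat_lit 0xb757a9c2e970b2242a80b984cd5113fd3c1c699e8f2123b8307402)
theorem tc10_f6_0 : allFrom (nat_lit 0) (nat_lit 24) (tc10.finOK (nat_lit 24) (Tr.get3 tc10_Q6 (nat_lit 9) (nat_lit 6)) (nat_lit 6)) = true := by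
  decide +kernel

def tc10_Q5 : Tr := .leaf (nat_lit 0xb8582a1409849229047a3a1b0c85e2c14094441f0d8602a1207838)
theorem tc10_f5_0 : allFrom (nat_lit 0) (nat_lit 24) (tc10.finOK (nat_lit 24) (Tr.get3 tc10_Q5 (nat_lit 9) (nat_lit 6)) (nat_lit 5)) = true := by
  decide +kernel

def tc10_Q4 : Tr := .leaf (nat_lit 0xbc5a2b1489c4b2390c7e3c1c0d0622e1509c48210e8682e1408836)
theorem tc10_f4_0 : allFrom (nat_lit 0) (nat_lit 24) (tc10.finOK (nat_lit 24) (Tr.get3 tc10_Q4 (nat_lit 9) (nat_lit 6)) (nat_lit 4)) = true := by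
  decide +kernel

def tc10_Q3 : Tr := .leaf (nat_lit 0xbb59aad469b4aa350a7d3b9bcce612d94c9a47208e4662d1388434)
theorem tc10_f3_0 : allFrom (nat_lit 0) (nat_lit 24) (tc10.finOK (nat_lit 24) (Tr.get3 tc10_Q3 (nat_lit 9) (nat_lit 6)) (nat_lit 3)) = true := by
  decide +kernel

def tc10_Q2 : Tr := .leaf (nat_lit 0xba592a9449a4a231087c3b1b8cc602d1489846200e0642c1308032)
theorem tc10_f2_0 : allFrom (nat_lit 0) (nat_lit 24) (tc10.finOK (nat_lit 24) (Tr.get3 tc10_Q2 (nat_lit 9) (nat_lit 6)) (nat_lit 2)) = true := by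
  decide +kernel

def tc10_Q1 : Tr := .leaf (nat_lit 0xb958aa5429949a2d067b3a9b4ca5f2c94496451f8dc622b1287c30)
theorem tc10_f1_0 : allFrom (nat_lit 0) (nat_lit 24) (tc10.finOK (nat_lit 24) (Tr.get3 tc10_Q1 (nat_lit 9) (nat_lit 6)) (nat_lit 1)) = true := by
  decide +kernel

theorem tc10_blocks : ∀ t < tc10.k, tc10.blockOK t = true :=
  (of_allFrom_append of_lt_zero tc10_b0)

/-- index 24 max 24 total 24 facts 193 | needed cosets 24 facts 193 steps 474 trivial 0 -/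
theorem tc10_index {G : Type*} [Group G] {γ : ℕ → G} (hL : Lab γ tc10_iv) (hr : ∀ t ∈ rel10, t.ev γ = 1) {K : Subgroup G}
    (hK : ∀ t ∈ ([.l 1, .l 2, .l 3, .l 4, .l 5] : List W), t.ev γ ∈ K) :
    K.relIndex (genW γ [.l 1, .l 2, .l 3, .l 4, .l 5, .l 6, .l 7, .l 8]) ≠ 0 ∧ K.relIndex (genW γ [.l 1, .l 2, .l 3, .l 4, .l 5, .l 6, .l 7, .l 8]) ≤ 24 :=
  TC.relIndex_le (D := tc10) (gens := [1, 2, 3, 4, 5, 6, 7, 8]) hL (List.forall_mem_cons.2 ⟨hL.zero_mem K, hK⟩) hr tc10_head tc10_blocks (by decide) (by decide)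
   (List.forall_mem_cons.2 ⟨⟨_, (of_allFrom_append of_lt_zero tc10_f1_0)⟩,
    List.forall_mem_cons.2 ⟨⟨_, (of_allFrom_append of_lt_zero tc10_f2_0)⟩,
    List.forall_mem_cons.2 ⟨⟨_, (of_allFrom_append of_lt_zero tc10_f3_0)⟩,
    List.forall_mem_cons.2 ⟨⟨_, (of_allFrom_append of_lt_zero tc10_f4_0)⟩,
    List.forall_mem_cons.2 ⟨⟨_, (of_allFrom_append of_lt_zero tc10_f5_0)⟩,
    List.forall_mem_cons.2 ⟨⟨_, (of_allFrom_append of_lt_zero tc10_f6_0)⟩,
    List.forall_mem_cons.2 ⟨⟨_, (of_allFrom_append of_lt_zero tc10_f7_0)⟩,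
    List.forall_mem_cons.2 ⟨⟨_, (of_allFrom_append of_lt_zero tc10_f8_0)⟩,
    fun _ h => absurd h List.not_mem_nil⟩⟩⟩⟩⟩⟩⟩⟩)

theorem tc10_idx {G : Type*} [Group G] {γ : ℕ → G} (h0 : γ 0 = 1) (hr : ∀ t ∈ rel10, t.ev γ = 1) {K : Subgroup G}
    (hK : ∀ t ∈ ([.l 1, .l 2, .l 3, .l 4, .l 5] : List W), t.ev γ ∈ K) :
    K.relIndex (genW γ [.l 1, .l 2, .l 3, .l 4, .l 5, .l 6, .l 7, .l 8]) ≠ 0 ∧ K.relIndex (genW γ [.l 1, .l 2, .l 3, .l 4, .l 5, .l 6, .l 7, .l 8]) ≤ 24 := by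
  have a := lab_of_rels h0 hr (iv := tc10_iv) (labs := tc10_labs) (by decide +kernel)
  have b := tc10_index a.1 a.2 (mems_fix (by decide +kernel) hK)
  rwa [genW_fix (by decide +kernel)] at b

theorem tb10 : TB rel10 [.l 1, .l 2, .l 3, .l 4, .l 5, .l 6, .l 7, .l 8] (24 * 32) := fun _ _ δ h0 hr =>
  card_le_of_relIndex (ov_le h0) (tc10_idx h0 hr fun _ => mem_genW δ)
    (tcE_tb _ δ h0 (List.forall_mem_append.1 (List.forall_mem_append.1 hr).1).1)

def m10_L0 : List (ℕ × List ℕ) := [((nat_lit 0), [(nat_lit 0xffbbcdeb38bdab49ca307b9ac5a928398a418820), (nat_lit 0xccaa46b3e39a7a6bf9483977a146d07d1dcc2c01), (nat_lit 0x660979c87ee1daade92532ebf75221b3e1dc8102), (nat_lit 0x5a2364960e570ed78bb99e281fdf7ea934604983), (nat_lit 0x51e0e299f4431781465dcf036afc77f6b604cda4), (nat_lit 0xf7e6d20e4cad2f6ee5e28879841ccb5241bd41c5), (nat_lit 0xadf19d11b3fc3c2671d40be5d3acaa400c3dda29), (nat_lit 0xd9179f59a680c5a471d50be499971d030ffa5e2a),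 (nat_lit 0xd9199f5dbd1bf51c72c1a42532a4e03291fab84b), (nat_lit 0xbd5921ef9df0bf0c343674733520075953a251e6), (nat_lit 0x26d12fd38916a035b43774726e81932e15eb55e7), (nat_lit 0x26f12fd793d446f6368eb0b3d0194549d7eb8608), (nat_lit 0x808e6a05607ee24522feae925977999b71677c6c), (nat_lit 0x7c5600d94910e1a41ff7f6ca69c99dce38ea548d), (nat_lit 0x966fbe63dae9a69afceb5008383e828d82d620ae), (nat_lit 0x6f3c3976bb61700fdd6a41b44b3a14089f999d31), (nat_lit 0xe37faccee4c0185f55075a47ba045674232ea8cf), (nat_lit 0xe347ecf49762b07d6cc54aff50d22eb3c5298110), (nat_lit 0xb8ca78808b56974977a27cebc37ace4f3180fd2), (nat_lit 0xb5008145277783f2987bd556ae624d667b0792f3), (nat_lit 0xecc7f67377ca24bd10a601fd5789d1806986a556), (nat_lit 0x49bf047284c8245f5b0764c5b7e9d1186ab6abb7), (nat_lit 0x9f75ec349592f281ec092abf78c02f13acce18f4), (nat_lit 0x327c25b6db91720fd18ac760488c2fd3ae8e1e75), (nat_lit 0x14149b3905891fb3aebfb8cc0ccdb2ef1940fb58),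 (nat_lit 0x705278c0aba5ed530083df948672786f64f16bf9), (nat_lit 0x42df4300413b55c8c272eb2cef549fbec692e71a), (nat_lit 0x3a9d029a8f5e5120db0d64c51aff57f0c804f3bb), (nat_lit 0x8bd05750e6868435abd5f9009ee713931a1b5f7c), (nat_lit 0xa58ab83cca0fdde027441dd076b33cc4a628eebd), (nat_lit 0x282af3b03aea666bbb8b6e62316e9025bcac225f), (nat_lit 0x16f1561c399ba9a85a8e49fa812c2dd3e762f3e)]),
  ((nat_lit 1), [(nat_lit 0xffbbcdeb38bdab49ca307b9ac5a928398a418820), (nat_lit 0xadd39d39a87fe3e372dba424be9d93560a309040), (nat_lit 0xb517286f86f47ef436aebeb2961fb854ca220460), (nat_lit 0x8bd8d74253a56d7c67faf6f9d4a9663a0a110c80), (nat_lit 0x8bd1871266f5bf45f6b0b8d89ca9b23f0a1d8b40), (nat_lit 0xb533d83b1c7d637933e3f126d49d0652ca20eb60), (nat_lit 0xb526880cd8bfebeea63b7856c69e5c564a2d11c0), (nat_lit 0x8bf8b768d2bfebe6a6c4a0919eab133b0a11ee00)]),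
  ((nat_lit 2), [(nat_lit 0xffbbcdeb38bdab49ca307b9ac5a928398a418820), (nat_lit 0xadd2c1c3aba7ede34e247bb086ab3c3c8ba16c20), (nat_lit 0xb53281112df57f791a3a7b97cc2bac3ccb0d8c20)])]

def m10_D0 : List ℕ := [(nat_lit 0), (nat_lit 513), (nat_lit 1025), (nat_lit 1537), (nat_lit 2049), (nat_lit 2561), (nat_lit 3073), (nat_lit 3585), (nat_lit 4097), (nat_lit 3329), (nat_lit 3841), (nat_lit 4353), (nat_lit 216578), (nat_lit 227330), (nat_lit 238082), (nat_lit 248834), (nat_lit 259330), (nat_lit 270594), (nat_lit 305666), (nat_lit 317442), (nat_lit 329730), (nat_lit 341506), (nat_lit 352514), (nat_lit 364290), (nat_lit 406018), (nat_lit 418818), (nat_lit 432642), (nat_lit 445442), (nat_lit 493058), (nat_lit 506882), (nat_lit 522754), (nat_lit 536322), (nat_lit 0), (nat_lit 58069763), (nat_lit 64669443), (nat_lit 14718092036), (nat_lit 16099622660), (nat_lit 17594482436), (nat_lit 19209337604), (nat_lit 20917846276),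 (nat_lit 0), (nat_lit 21565652740), (nat_lit 8174722820)]

def m10 : PM :=
  ⟨(nat_lit 32), (nat_lit 5), [(nat_lit 0xccaa46b3e39a7a6bf9483977a146d07d1dcc2c01), (nat_lit 0x660979c87ee1daade92532ebf75221b3e1dc8102), (nat_lit 0x5a2364960e570ed78bb99e281fdf7ea934604983), (nat_lit 0x51e0e299f4431781465dcf036afc77f6b604cda4), (nat_lit 0xf7e6d20e4cad2f6ee5e28879841ccb5241bd41c5), (nat_lit 0xadf19d11b3fc3c2671d40be5d3acaa400c3dda29), (nat_lit 0xd9179f59a680c5a471d50be499971d030ffa5e2a), (nat_lit 0xd9199f5dbd1bf51c72c1a42532a4e03291fab84b)],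
    [[.l 1, .l 2, .l 3, .l 4, .l 5, .l 6, .l 7, .l 8]],
    [m10_L0], [m10_D0]⟩

instance m10_ne : NeZero m10.n := ⟨by decide⟩

theorem m10_ok0 : m10.ok0 = true := by decide +kernel

theorem m10_k0 : allFrom (nat_lit 0) (nat_lit 1) m10.okK = true := by decide +kernel

theorem m10_ok : m10.OK := PM.OK.of_check m10_ok0
  (of_allFrom_append of_lt_zero m10_k0)

theorem m10_card0 : Nat.card (genW m10.gam (m10.ws 0)) = 768 := (m10_ok.card 0).trans (by decide +kernel)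

theorem m10_s1_ev : m10.eval (.all 0 40 [] (.imp (.one (.mul (.l 40) (.l 40))) (.ex 0 41 [(.l 40, .l 40)] (.eq (.mul (.l 41) (.l 41)) (.l 5))))) = true := by
  decide +kernel

theorem m10_s1 {G : Type*} [Group G] {γ : ℕ → G} (h : IsoW m10.gam γ) :
    ∀ y ∈ genW γ (m10.ws 0), y * y = 1 → ∃ x ∈ genW γ (m10.ws 0), x * y = y * x ∧ x * x = γ 5 :=
  m10_ok.transfer h m10_s1_ev

theorem m10_s2_ev : m10.eval (.all 0 40 [] (.imp (.one (.pow (.l 40) 4)) (.or (.one (.mul (.l 40) (.l 40))) (.or (.eq (.mul (.l 40) (.l 40)) (.l 5)) (.or (.ex 0 41 [(.mul (.mul (.mul (.l 1) (.l 2)) (.l 3)) (.l 4), .mul (.l 40) (.l 40))] (.tt)) (.ex 0 41 [(.mul (.l 6) (.l 8), .mul (.l 40) (.l 40))] (.tt))))))) = true := by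
  decide +kernel

theorem m10_s2 {G : Type*} [Group G] {γ : ℕ → G} (h : IsoW m10.gam γ) :
    ∀ x ∈ genW γ (m10.ws 0), x ^ 4 = 1 → x * x = 1 ∨ x * x = γ 5 ∨ (∃ k ∈ genW γ (m10.ws 0), k * (γ 1 * γ 2 * γ 3 * γ 4) = x * x * k ∧ True) ∨ (∃ k ∈ genW γ (m10.ws 0), k * (γ 6 * γ 8) = x * x * k ∧ True) :=
  m10_ok.transfer h m10_s2_ev

theorem m10_d1_ev : m10.eval (.ex 0 40 [(.mul (.l 6) (.l 8), .mul (.l 6) (.l 8))] (.and (.eq (.mul (.mul (.mul (.l 40) (.mul (.mul (.mul (.l 1) (.l 2)) (.l 3)) (.l 4))) (.l 40)) (.mul (.mul (.mul (.l 1) (.l 2)) (.l 3)) (.l 4))) (.mul (.l 6) (.l 8))) (.and (.eq (.mul (.l 40) (.l 40)) (.mul (.l 5) (.mul (.l 6) (.l 8)))) (.and (.eq (.mul (.mul (.mul (.mul (.l 1) (.l 2)) (.l 3)) (.l 4)) (.mul (.l 6) (.l 8))) (.mul (.mul (.l 6) (.l 8)) (.mul (.mul (.mul (.l 1) (.l 2)) (.l 3)) (.l 4)))) (.one (.mul (.mul (.mul (.mul (.l 1) (.l 2)) (.l 3)) (.l 4)) (.mul (.mul (.mul (.l 1) (.l 2)) (.l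 3)) (.l 4)))))))) = true := by
  decide +kernel

theorem m10_d1 {G : Type*} [Group G] {γ : ℕ → G} (h : IsoW m10.gam γ) :
    ∃ x ∈ genW γ (m10.ws 0), x * (γ 6 * γ 8) = γ 6 * γ 8 * x ∧ x * (γ 1 * γ 2 * γ 3 * γ 4) * x * (γ 1 * γ 2 * γ 3 * γ 4) = γ 6 * γ 8 ∧ x * x = γ 5 * (γ 6 * γ 8) ∧ γ 1 * γ 2 * γ 3 * γ 4 * (γ 6 * γ 8) = γ 6 * γ 8 * (γ 1 * γ 2 * γ 3 * γ 4) ∧ γ 1 * γ 2 * γ 3 * γ 4 * (γ 1 * γ 2 * γ 3 * γ 4) = 1 :=
  m10_ok.transfer h m10_d1_ev

theorem m10_d2_ev : m10.eval (.all 0 40 [(.mul (.l 6) (.l 8), .mul (.l 6) (.l 8))] (.imp (.eq (.mul (.l 40) (.l 40)) (.mul (.mul (.l 6) (.l 8)) (.l 5))) (.all 0 41 [(.mul (.l 6) (.l 8), .mul (.l 6) (.l 8))] (.imp (.one (.mul (.l 41) (.l 41))) (.imp (.eq (.mul (.mul (.mul (.l 40) (.l 41)) (.l 40)) (.l 41)) (.l 5)) (.ex 0 42 [(.mul (.l 6) (.l 8), .l 41)] (.tt))))))) = true := by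
  decide +kernel

theorem m10_d2 {G : Type*} [Group G] {γ : ℕ → G} (h : IsoW m10.gam γ) :
    ∀ x ∈ genW γ (m10.ws 0), x * (γ 6 * γ 8) = γ 6 * γ 8 * x → x * x = γ 6 * γ 8 * γ 5 → ∀ w ∈ genW γ (m10.ws 0), w * (γ 6 * γ 8) = γ 6 * γ 8 * w → w * w = 1 → x * w * x * w = γ 5 → ∃ k ∈ genW γ (m10.ws 0), k * (γ 6 * γ 8) = w * k ∧ True :=
  m10_ok.transfer h m10_d2_ev

theorem m10_d3_ev : m10.eval (.all 0 40 [(.mul (.l 6) (.l 8), .mul (.l 6) (.l 8))] (.imp (.one (.pow (.l 40) 3)) (.one (.l 40)))) = true := by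
  decide +kernel

theorem m10_d3 {G : Type*} [Group G] {γ : ℕ → G} (h : IsoW m10.gam γ) :
    ∀ x ∈ genW γ (m10.ws 0), x * (γ 6 * γ 8) = γ 6 * γ 8 * x → x ^ 3 = 1 → x = 1 :=
  m10_ok.transfer h m10_d3_ev

theorem m10_d4_ev : m10.eval (.ex 0 40 [(.mul (.mul (.mul (.l 1) (.l 2)) (.l 3)) (.l 4), .mul (.mul (.mul (.l 1) (.l 2)) (.l 3)) (.l 4))] (.and (.one (.pow (.l 40) 3)) (.not (.one (.l 40))))) = true := by
  decide +kernel

theorem m10_d4 {G : Type*} [Group G] {γ : ℕ → G} (h : IsoW m10.gam γ) :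
    ∃ x ∈ genW γ (m10.ws 0), x * (γ 1 * γ 2 * γ 3 * γ 4) = γ 1 * γ 2 * γ 3 * γ 4 * x ∧ x ^ 3 = 1 ∧ x ≠ 1 :=
  m10_ok.transfer h m10_d4_ev

theorem m10_v1_ev : m10.eval (.ex 0 40 [(.mul (.mul (.mul (.l 1) (.l 2)) (.l 3)) (.l 4), .mul (.mul (.mul (.l 1) (.l 2)) (.l 3)) (.l 4))] (.and (.eq (.mul (.l 40) (.l 40)) (.l 5)) (.ex 0 41 [(.mul (.mul (.mul (.l 1) (.l 2)) (.l 3)) (.l 4), .mul (.mul (.mul (.l 1) (.l 2)) (.l 3)) (.l 4))] (.and (.eq (.mul (.l 41) (.l 41)) (.l 5)) (.eq (.mul (.mul (.mul (.l 40) (.l 41)) (.l 40)) (.l 41)) (.mul (.mul (.mul (.l 1) (.l 2)) (.l 3)) (.l 4))))))) = true := by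
  decide +kernel

theorem m10_v1 {G : Type*} [Group G] {γ : ℕ → G} (h : IsoW m10.gam γ) :
    ∃ x ∈ genW γ (m10.ws 0), x * (γ 1 * γ 2 * γ 3 * γ 4) = γ 1 * γ 2 * γ 3 * γ 4 * x ∧ x * x = γ 5 ∧ (∃ y ∈ genW γ (m10.ws 0), y * (γ 1 * γ 2 * γ 3 * γ 4) = γ 1 * γ 2 * γ 3 * γ 4 * y ∧ y * y = γ 5 ∧ x * y * x * y = γ 1 * γ 2 * γ 3 * γ 4) :=
  m10_ok.transfer h m10_v1_ev

theorem m10_v2_ev : m10.eval (.all 0 40 [(.mul (.mul (.mul (.l 1) (.l 2)) (.l 3)) (.l 4), .mul (.mul (.mul (.l 1) (.l 2)) (.l 3)) (.l 4))] (.imp (.eq (.mul (.l 40) (.l 40)) (.mul (.mul (.mul (.l 1) (.l 2)) (.l 3)) (.l 4))) (.all 0 41 [(.mul (.mul (.mul (.l 1) (.l 2)) (.l 3)) (.l 4), .mul (.mul (.mul (.l 1) (.l 2)) (.l 3)) (.l 4))] (.imp (.eq (.mul (.l 41) (.l 41)) (.mul (.mul (.mul (.l 1) (.l 2)) (.l 3)) (.l 4))) (.not (.eq (.mul (.mul (.mul (.l 40) (.l 41)) (.l 40)) (.l 41)) (.l 5))))))) = true := by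
  decide +kernel

theorem m10_v2 {G : Type*} [Group G] {γ : ℕ → G} (h : IsoW m10.gam γ) :
    ∀ x ∈ genW γ (m10.ws 0), x * (γ 1 * γ 2 * γ 3 * γ 4) = γ 1 * γ 2 * γ 3 * γ 4 * x → x * x = γ 1 * γ 2 * γ 3 * γ 4 → ∀ y ∈ genW γ (m10.ws 0), y * (γ 1 * γ 2 * γ 3 * γ 4) = γ 1 * γ 2 * γ 3 * γ 4 * y → y * y = γ 1 * γ 2 * γ 3 * γ 4 → x * y * x * y ≠ γ 5 :=
  m10_ok.transfer h m10_v2_ev

/-- squares and commutator -/
def x11 : List W := [.mul (.mul (.l 6) (.l 6)) (.l 5), .mul (.mul (.l 7) (.l 7)) (.l 5), .mul (.mul (.l 8) (.l 8)) (.l 5), .mul (.mul (.mul (.mul (.l 6) (.l 8)) (.inv (.l 6))) (.inv (.l 8))) (.l 5)]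

/-- all relators -/
def rel11 : List W := relE ++ relA ++ x11

/-- inverse letters -/
def tc11_iv : ℕ := 296335229793175584

/-- inverse letters -/
def tc11_labs : List W := [.l 0, .l 1, .l 2, .l 3, .l 4, .l 5, .l 6, .l 7, .l 8, .inv (.l 6), .inv (.l 7), .inv (.l 8)]

def tc11_F : Tr := .leaf (nat_lit 0x5dd163d557554f75d91725c971dc7715c570dc372dcb74d0d73cd5654cf6258961d876158560d8362d8b64c8d65d5115c515254951d475154550d4352d4b54c0d5449745c914250941d074150540d0342d0b453cf45cd0e5b91324c931cc7314c530cc332ccb34b4d3248921c872148520c8322c8b2530f23b951538f1244911c471144510c4312c4b14acd142d705ad10240901c070140500c0302c0b0528f033d2a3292f23c8f1bc6f13c4f0bc2f2bcaf5a50f2388e1b86e1384e0b82e2b8ae4a0ce4216d5a10d2348d1b46d1344d0b42d2b4ad51ced3312731d2c2308c1b06c1304c0b02c2b0ac5990c22c8b1ac6b12c4b0ac2b2acab514eb2288a1a86a1284a0a82a2a8aa5910a39949518e9224891a469124490a4292a4a9490c9220881a068120480a0282a0a850ce821c8719c6711c4709c2729ca75890721886198661184609826298a6488c63152330d2521485194651144509425294a55850521084190641104409024290a4504e420c8318c6310c4308c2328ca35810320882188621084208822288a2500e220481184611044108421284a1480c1280a0200801806010040080204dcd44d8d24d4d0550ef4cccd548ec4c4cb540ea5bd094b8c8534e75b10652ce55a9044a4c4520e359d02498c259501510e158d00508e0484c000000)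
def tc11_T : Tr := .leaf (nat_lit 0xbdab49ca307b9ac5a928398a418820)
def tc11_P : Tr := .node (.node (.node (.leaf (nat_lit 0x30e8780b0041e0500872070041e0510c160042a0a2282c00850144105801098287e0b00212051a801074143d0021d041141200422082082400840104304801078207e090020e0417801070103d0021c030d40e0042a061b81c008500c33038010981862070021203148010740c390021d020dc0a004220419814008400835028010781062050020e021180107008390021c010dc060041a021a80c008300431018010580866030020a010e80106c04390021b))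
  (.leaf (nat_lit 0x175245e0041a2ea38bc008305d4317801058ba8a2f0020a175b80106c5d410021b16091a61b138030c8b246d40dcb800864592d16801068b2562d0020c1649c5a004162c948b400828595e0041b164940086c44bc880ac0087855058788c00878550d15801068aa162b0020c1541c56004162a848ac00828554e0041b154140086c501e568644a00c342879aac33220021a143f45200422287c8a40084050fb14801078a1ee290020e144f80107050f50021c0e251c8270021e13365c61d0021e)))
  (.leaf (nat_lit 0xf2943e004261e5187c008483cf20041d0f28400874389d0e80106871361d0020c0e25c3a004161c4c8740082838e60041b0e2540086c340e0201c2200c341a4391c0e920021a0d24436004221a4686c00840348f0d80107869161b0020e0d3580107034890021c071e8f8190041e0c030920f0041e0c20c320042a18428640085030810c80109860fe19002120c31801074307d0021d0b1d42e00422163885c008402c730b80107858de170020e0b2e8010702c6d0021c)))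
  (.node (.node (.leaf (nat_lit 0x28670a8010a850d215002140a1942a0042614318540084828ae0041d0a184008742408010141a00c32122f8ec0a7a00219091a4260041a123384c0083024630980105848ca130020a092780106c24610021b081742200422102c84400840205b0880107840ae110020e082480107020550021c0713c1e0042a0e2883c008501c4d0780109838960f0021207218010741c490021d061441a0041a0c2783400830184b06801058309a0d0020a061e80106c18490021b))
  (.leaf (nat_lit 0x7fc007fc007fc007fc007fc007fc007fc007fc007fc007fc007fc007fc007fc007fc007fc007fc007fc007fc007fc007fc007fc007fc007fc007fc007fc007fc007fc007fc5924a60bc008785c287f8845600c322e9fc00434e0021917506962d0021e)))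
  (.leaf (nat_lit 0x4ce11380106899be270020c1336c4e00416266e89c008284d2e0041b133640086c48d112801088919a25002101233c4a0041e24658940083849220041c123240087044163b8443a00c32225d9e022e60021911314460041a226188c0083044bf118010588982230020a114480106c44bd0021b10050100b0b8030d0815e5f05ae80086840b910801088816a2100210102dc420041e20598840083841020041c102c400870289e5007c010783c1230854010783ca70f8010a879521f00214)))
def tc11_N_0 : Tr := .node (.node (.node (.node (.leaf (nat_lit 5309505))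
  (.leaf (nat_lit 0)))
  (.leaf (nat_lit 33)))
  (.node (.leaf (nat_lit 75879))
  (.leaf (nat_lit 9222))))
  (.node (.node (.leaf (nat_lit 103525))
  (.leaf (nat_lit 132)))
  (.node (.leaf (nat_lit 175272))
  (.leaf (nat_lit 201))))
def tc11_N_1 : Tr := .node (.node (.node (.node (.leaf (nat_lit 5375105))
  (.leaf (nat_lit 66)))
  (.node (.leaf (nat_lit 44072))
  (.leaf (nat_lit 327))))
  (.node (.node (.leaf (nat_lit 74790))
  (.leaf (nat_lit 4100)))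
  (.node (.leaf (nat_lit 379952391))
  (.leaf (nat_lit 234)))))
  (.node (.node (.node (.leaf (nat_lit 37925))
  (.leaf (nat_lit 99)))
  (.node (.leaf (nat_lit 173222))
  (.leaf (nat_lit 11272))))
  (.node (.node (.leaf (nat_lit 43047))
  (.leaf (nat_lit 294)))
  (.node (.leaf (nat_lit 5612806))
  (.leaf (nat_lit 267)))))
def tc11_N_2 : Tr := .node (.node (.node (.node (.leaf (nat_lit 5342305))
  (.leaf (nat_lit 0)))
  (.leaf (nat_lit 1025)))
  (.node (.leaf (nat_lit 141447))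
  (.leaf (nat_lit 327))))
  (.node (.node (.leaf (nat_lit 136325))
  (.leaf (nat_lit 132)))
  (.node (.leaf (nat_lit 345315558))
  (.leaf (nat_lit 6153))))
def tc11_N_3 : Tr := .node (.node (.node (.node (.leaf (nat_lit 5343330))
  (.leaf (nat_lit 66)))
  (.node (.leaf (nat_lit 76872))
  (.leaf (nat_lit 10247))))
  (.node (.node (.leaf (nat_lit 42054))
  (.leaf (nat_lit 165)))
  (.node (.leaf (nat_lit 5318))
  (.leaf (nat_lit 234)))))
  (.node (.node (.node (.leaf (nat_lit 70725))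
  (.leaf (nat_lit 3075)))
  (.node (.leaf (nat_lit 174247))
  (.leaf (nat_lit 201))))
  (.node (.node (.leaf (nat_lit 108615))
  (.leaf (nat_lit 294)))
  (.node (.leaf (nat_lit 33))
  (.leaf (nat_lit 8203)))))
def tc11_N : Tr := .node (.node (.node tc11_N_0
  (.node (.node (.node (.leaf (nat_lit 5376130))
  (.leaf (nat_lit 2050)))
  (.node (.leaf (nat_lit 142440))
  (.leaf (nat_lit 360))))
  (.node (.node (.leaf (nat_lit 107622))
  (.leaf (nat_lit 165)))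
  (.node (.leaf (nat_lit 5351))
  (.leaf (nat_lit 7178))))))
  tc11_N_1)
  (.node (.node tc11_N_2
  (.node (.node (.node (.leaf (nat_lit 5377155))
  (.leaf (nat_lit 99)))
  (.node (.leaf (nat_lit 109704))
  (.leaf (nat_lit 360))))
  (.node (.node (.leaf (nat_lit 140422))
  (.leaf (nat_lit 5125)))
  (.node (.leaf (nat_lit 5384))
  (.leaf (nat_lit 267))))))
  tc11_N_3)
noncomputable def tc11 : TC :=
  ⟨[.l 0, .l 1, .l 2, .l 3, .l 4, .l 5, .l 6, .l 7, .l 8, .l 9, .l 10, .l 11],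
    (nat_lit 5), (nat_lit 9), (nat_lit 0x41ccb524a418820), (nat_lit 63), (nat_lit 24), (nat_lit 5), (nat_lit 32), (nat_lit 6), (nat_lit 66),
    get (nat_lit 10) (nat_lit 0x1003010030080400c02010030080400c02010030080400c02010030080400c02010030080400c02010030080500c0300c0601804010040100401004010040100401004010040100401004014050140501405), Tr.get tc11_N, get (nat_lit 20) (nat_lit 0x3ff003ff003ff003ff003ff003ff003ff003ff003ff003ff003ff003ff003ff003ff003ff003ff003ff003ff003ff003ff003ff003ff003ff003ff003ff003ff003ff003ff003ff003ff003ff003ff003ff003ff003ff000230002200021000200001f0001e0001d0001c0001b0001a000190001800017000160001500014000130001200011000100000f0000e0000d0000c0000b0000a0000900008000070000600005),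
    Tr.get3 tc11_F (nat_lit 20) (nat_lit 5), Tr.get3 tc11_T (nat_lit 5) (nat_lit 7), Tr.get tc11_P⟩

theorem tc11_head : tc11.headOK rel11 tc11_iv = true := by decide +kernel

theorem tc11_b0 : allFrom (nat_lit 0) (nat_lit 6) tc11.blockOK = true := by decide +kernel

def tc11_Q8 : Tr := .leaf (nat_lit 0xbd602b54a9d536b90e794f1c4c688ab83ce543060d414290381406)
theorem tc11_f8_0 : allFrom (nat_lit 0) (nat_lit 24) (tc11.finOK (nat_lit 24) (Tr.get3 tc11_Q8 (nat_lit 9) (nat_lit 6)) (nat_lit 8)) = true := by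
  decide +kernel

def tc11_Q7 : Tr := .leaf (nat_lit 0xbe5aaff3eb6c8a3d0214485ac245d08154920d2b42c5e081181004)
theorem tc11_f7_0 : allFrom (nat_lit 0) (nat_lit 24) (tc11.finOK (nat_lit 24) (Tr.get3 tc11_Q7 (nat_lit 9) (nat_lit 6)) (nat_lit 7)) = true := by
  decide +kernel

def tc11_Q6 : Tr := .leaf (nat_lit 0xb757a9c2e970b2242a80b984cd5113fd3c1c699e8f2123b8307402)
theorem tc11_f6_0 : allFrom (nat_lit 0) (nat_lit 24) (tc11.finOK (nat_lit 24) (Tr.get3 tc11_Q6 (nat_lit 9) (nat_lit 6)) (nat_lit 6)) = true := by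
  decide +kernel

def tc11_Q5 : Tr := .leaf (nat_lit 0xb8582a1409849229047a3a1b0c85e2c14094441f0d8602a1207838)
theorem tc11_f5_0 : allFrom (nat_lit 0) (nat_lit 24) (tc11.finOK (nat_lit 24) (Tr.get3 tc11_Q5 (nat_lit 9) (nat_lit 6)) (nat_lit 5)) = true := by
  decide +kernel

def tc11_Q4 : Tr := .leaf (nat_lit 0xbc5a2b1489c4b2390c7e3c1c0d0622e1509c48210e8682e1408836)
theorem tc11_f4_0 : allFrom (nat_lit 0) (nat_lit 24) (tc11.finOK (nat_lit 24) (Tr.get3 tc11_Q4 (nat_lit 9) (nat_lit 6)) (nat_lit 4)) = true := by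
  decide +kernel

def tc11_Q3 : Tr := .leaf (nat_lit 0xbb59aad469b4aa350a7d3b9bcce612d94c9a47208e4662d1388434)
theorem tc11_f3_0 : allFrom (nat_lit 0) (nat_lit 24) (tc11.finOK (nat_lit 24) (Tr.get3 tc11_Q3 (nat_lit 9) (nat_lit 6)) (nat_lit 3)) = true := by
  decide +kernel

def tc11_Q2 : Tr := .leaf (nat_lit 0xba592a9449a4a231087c3b1b8cc602d1489846200e0642c1308032)
theorem tc11_f2_0 : allFrom (nat_lit 0) (nat_lit 24) (tc11.finOK (nat_lit 24) (Tr.get3 tc11_Q2 (nat_lit 9) (nat_lit 6)) (nat_lit 2)) = true := by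
  decide +kernel

def tc11_Q1 : Tr := .leaf (nat_lit 0xb958aa5429949a2d067b3a9b4ca5f2c94496451f8dc622b1287c30)
theorem tc11_f1_0 : allFrom (nat_lit 0) (nat_lit 24) (tc11.finOK (nat_lit 24) (Tr.get3 tc11_Q1 (nat_lit 9) (nat_lit 6)) (nat_lit 1)) = true := by
  decide +kernel

theorem tc11_blocks : ∀ t < tc11.k, tc11.blockOK t = true :=
  (of_allFrom_append of_lt_zero tc11_b0)

/-- index 24 max 24 total 24 facts 193 | needed cosets 24 facts 193 steps 486 trivial 0 -/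
theorem tc11_index {G : Type*} [Group G] {γ : ℕ → G} (hL : Lab γ tc11_iv) (hr : ∀ t ∈ rel11, t.ev γ = 1) {K : Subgroup G}
    (hK : ∀ t ∈ ([.l 1, .l 2, .l 3, .l 4, .l 5] : List W), t.ev γ ∈ K) :
    K.relIndex (genW γ [.l 1, .l 2, .l 3, .l 4, .l 5, .l 6, .l 7, .l 8]) ≠ 0 ∧ K.relIndex (genW γ [.l 1, .l 2, .l 3, .l 4, .l 5, .l 6, .l 7, .l 8]) ≤ 24 :=
  TC.relIndex_le (D := tc11) (gens := [1, 2, 3, 4, 5, 6, 7, 8]) hL (List.forall_mem_cons.2 ⟨hL.zero_mem K, hK⟩) hr tc11_head tc11_blocks (by decide) (by decide)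
   (List.forall_mem_cons.2 ⟨⟨_, (of_allFrom_append of_lt_zero tc11_f1_0)⟩,
    List.forall_mem_cons.2 ⟨⟨_, (of_allFrom_append of_lt_zero tc11_f2_0)⟩,
    List.forall_mem_cons.2 ⟨⟨_, (of_allFrom_append of_lt_zero tc11_f3_0)⟩,
    List.forall_mem_cons.2 ⟨⟨_, (of_allFrom_append of_lt_zero tc11_f4_0)⟩,
    List.forall_mem_cons.2 ⟨⟨_, (of_allFrom_append of_lt_zero tc11_f5_0)⟩,
    List.forall_mem_cons.2 ⟨⟨_, (of_allFrom_append of_lt_zero tc11_f6_0)⟩,
    List.forall_mem_cons.2 ⟨⟨_, (of_allFrom_append of_lt_zero tc11_f7_0)⟩,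
    List.forall_mem_cons.2 ⟨⟨_, (of_allFrom_append of_lt_zero tc11_f8_0)⟩,
    fun _ h => absurd h List.not_mem_nil⟩⟩⟩⟩⟩⟩⟩⟩)

theorem tc11_idx {G : Type*} [Group G] {γ : ℕ → G} (h0 : γ 0 = 1) (hr : ∀ t ∈ rel11, t.ev γ = 1) {K : Subgroup G}
    (hK : ∀ t ∈ ([.l 1, .l 2, .l 3, .l 4, .l 5] : List W), t.ev γ ∈ K) :
    K.relIndex (genW γ [.l 1, .l 2, .l 3, .l 4, .l 5, .l 6, .l 7, .l 8]) ≠ 0 ∧ K.relIndex (genW γ [.l 1, .l 2, .l 3, .l 4, .l 5, .l 6, .l 7, .l 8]) ≤ 24 := by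
  have a := lab_of_rels h0 hr (iv := tc11_iv) (labs := tc11_labs) (by decide +kernel)
  have b := tc11_index a.1 a.2 (mems_fix (by decide +kernel) hK)
  rwa [genW_fix (by decide +kernel)] at b

theorem tb11 : TB rel11 [.l 1, .l 2, .l 3, .l 4, .l 5, .l 6, .l 7, .l 8] (24 * 32) := fun _ _ δ h0 hr =>
  card_le_of_relIndex (ov_le h0) (tc11_idx h0 hr fun _ => mem_genW δ)
    (tcE_tb _ δ h0 (List.forall_mem_append.1 (List.forall_mem_append.1 hr).1).1)

def m11_L0 : List (ℕ × List ℕ) := [((nat_lit 0), [(nat_lit 0xffbbcdeb38bdab49ca307b9ac5a928398a418820), (nat_lit 0xb430e62c7d47cca2093e3f0bbd52377d5b3cc801), (nat_lit 0x8d5f75cc89e1fc5d37e8e9a43d8710b3a9960142), (nat_lit 0xbc6af915a8f9bac16fc7e2734091d885b4a04d63), (nat_lit 0x75a182aa9c3f93968d1d37e6116ab1bbf6092d84), (nat_lit 0xef3fe20d76ae2e2629ee8c033cc8e64a01bd51a5), (nat_lit 0x64a6a7d93aa0c55ff36d205dd3f965c80d1c5e08), (nat_lit 0xcc96abdbba20f70371a20d1e8ff8b3030f5c3a29),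 (nat_lit 0x9a9928e0e316a97ef881db61f4f3205950fb55c6), (nat_lit 0x5ab32ae3e3de88e4783468a26ef00c2cd37b41e7), (nat_lit 0x3a1261ed8f845c1c8315b5e8b997fcefa5a2344a), (nat_lit 0x31d09a0415c5ec454dd183f522b3dfe77226ec6b), (nat_lit 0xf779f08a508b9fa02eb6be365565073266da0c8c), (nat_lit 0xc3ad09e75f37512dd0fc4f804189f58dc2c5a8ad), (nat_lit 0x1b741e9f132b01e8dd72ca8cfb5774209df4f110), (nat_lit 0x18b5447f0b9e59eab8b2028f7b41a40ede6ef131), (nat_lit 0xd046dfa6cc04cbc7d72a5c911c5c82dd21d3f8ce), (nat_lit 0xd5062376d962e7cbc00a2c935c383b69228ff8ef), (nat_lit 0x498e8d127173e0d596d7c5459603beff143d8692), (nat_lit 0xf779f0894e7c23a2e6f8adb6092d073258da0c93), (nat_lit 0x7de35cb367f2780187a6fa15a236cec404b99654), (nat_lit 0xd88943fe2b56646b3985983987c34d186a9ea3d7), (nat_lit 0x6e823471c560267bbe5952fb58468416ec6f27f8), (nat_lit 0x253624f5f992d48c4260617d68b861d36e7f9b95), (nat_lit 0x8dba37a0099589ac54b967f773c5ba1308e1fb6),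 (nat_lit 0x424c7134b7b571b9320f7446a04f9df7d7409359), (nat_lit 0xabef150026ea3f3a1389f1d626ee16760722b33a), (nat_lit 0x861d60485e4f0eb0e8df4758da0eefac4855667b), (nat_lit 0xc9560c3fa46ec304a3421d2a7f998a9cb968bafe), (nat_lit 0x64abac3c1237713269a10ec8e1e4c54fb773f1f), (nat_lit 0x58325b47fb091ae39874d0ae9ea27262bd87c2bc), (nat_lit 0x2ac19bbb8dd848f41c43a6b06f2553933f5846dd)]),
  ((nat_lit 1), [(nat_lit 0xffbbcdeb38bdab49ca307b9ac5a928398a418820), (nat_lit 0x3fd3d2526eb4301966377d74a62fc6e20bb13460), (nat_lit 0xf27872365585ddacce367e04b533a6fa0bb08e80), (nat_lit 0xe1fc9d865585dc3cce367e28b533e8e98a46e840), (nat_lit 0x3f93c16a5585dc1cce367e36b5311d37cb41b480), (nat_lit 0xfa7a71b66eb4314966377d48a62cdc478ba08b60), (nat_lit 0x4f4ffd8a6eb430d966377d46a62f88f18a4a0740), (nat_lit 0xef3fe20f38bdaa29ca307b82c5a8e64a0bbd51a0)]),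
  ((nat_lit 2), [(nat_lit 0xffbbcdeb38bdab49ca307b9ac5a928398a418820), (nat_lit 0x47cddd525585ddbcce367e1ab5313e3f0a311020), (nat_lit 0xf2386a6e6eb431a966377d5aa62d3f3f4a220c20)])]

def m11_D0 : List ℕ := [(nat_lit 0), (nat_lit 513), (nat_lit 1025), (nat_lit 1537), (nat_lit 2049), (nat_lit 2561), (nat_lit 3073), (nat_lit 3585), (nat_lit 3329), (nat_lit 3841), (nat_lit 195586), (nat_lit 206338), (nat_lit 217090), (nat_lit 227842), (nat_lit 238594), (nat_lit 249346), (nat_lit 259330), (nat_lit 270082), (nat_lit 304642), (nat_lit 316930), (nat_lit 329218), (nat_lit 340994), (nat_lit 353282), (nat_lit 363778), (nat_lit 376066), (nat_lit 418306), (nat_lit 432642), (nat_lit 481794), (nat_lit 722946), (nat_lit 743426), (nat_lit 762114), (nat_lit 782594), (nat_lit 0), (nat_lit 47235331), (nat_lit 91175171), (nat_lit 14706200836), (nat_lit 174583555), (nat_lit 187195395), (nat_lit 18395033860), (nat_lit 19992981764),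 (nat_lit 0), (nat_lit 925698), (nat_lit 453378)]

def m11 : PM :=
  ⟨(nat_lit 32), (nat_lit 5), [(nat_lit 0xb430e62c7d47cca2093e3f0bbd52377d5b3cc801), (nat_lit 0x8d5f75cc89e1fc5d37e8e9a43d8710b3a9960142), (nat_lit 0xbc6af915a8f9bac16fc7e2734091d885b4a04d63), (nat_lit 0x75a182aa9c3f93968d1d37e6116ab1bbf6092d84), (nat_lit 0xef3fe20d76ae2e2629ee8c033cc8e64a01bd51a5), (nat_lit 0x64a6a7d93aa0c55ff36d205dd3f965c80d1c5e08), (nat_lit 0xcc96abdbba20f70371a20d1e8ff8b3030f5c3a29), (nat_lit 0x94d4c85cd418b56e75a40edfe47cb902ceeae229)],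
    [[.l 1, .l 2, .l 3, .l 4, .l 5, .l 6, .l 7, .l 8]],
    [m11_L0], [m11_D0]⟩

instance m11_ne : NeZero m11.n := ⟨by decide⟩

theorem m11_ok0 : m11.ok0 = true := by decide +kernel

theorem m11_k0 : allFrom (nat_lit 0) (nat_lit 1) m11.okK = true := by decide +kernel

theorem m11_ok : m11.OK := PM.OK.of_check m11_ok0
  (of_allFrom_append of_lt_zero m11_k0)

theorem m11_card0 : Nat.card (genW m11.gam (m11.ws 0)) = 768 := (m11_ok.card 0).trans (by decide +kernel)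

theorem m11_s1_ev : m11.eval (.all 0 40 [] (.imp (.one (.mul (.l 40) (.l 40))) (.ex 0 41 [(.l 40, .l 40)] (.eq (.mul (.l 41) (.l 41)) (.l 5))))) = true := by
  decide +kernel

theorem m11_s1 {G : Type*} [Group G] {γ : ℕ → G} (h : IsoW m11.gam γ) :
    ∀ y ∈ genW γ (m11.ws 0), y * y = 1 → ∃ x ∈ genW γ (m11.ws 0), x * y = y * x ∧ x * x = γ 5 :=
  m11_ok.transfer h m11_s1_ev

theorem m11_s2_ev : m11.eval (.all 0 40 [] (.imp (.one (.pow (.l 40) 4)) (.or (.one (.mul (.l 40) (.l 40))) (.or (.eq (.mul (.l 40) (.l 40)) (.l 5)) (.ex 0 41 [(.mul (.mul (.mul (.l 1) (.l 2)) (.l 3)) (.l 4), .mul (.l 40) (.l 40))] (.tt)))))) = true := by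
  decide +kernel

theorem m11_s2 {G : Type*} [Group G] {γ : ℕ → G} (h : IsoW m11.gam γ) :
    ∀ x ∈ genW γ (m11.ws 0), x ^ 4 = 1 → x * x = 1 ∨ x * x = γ 5 ∨ (∃ k ∈ genW γ (m11.ws 0), k * (γ 1 * γ 2 * γ 3 * γ 4) = x * x * k ∧ True) :=
  m11_ok.transfer h m11_s2_ev

theorem m11_v1_ev : m11.eval (.ex 0 40 [(.mul (.mul (.mul (.l 1) (.l 2)) (.l 3)) (.l 4), .mul (.mul (.mul (.l 1) (.l 2)) (.l 3)) (.l 4))] (.and (.eq (.mul (.l 40) (.l 40)) (.l 5)) (.ex 0 41 [(.mul (.mul (.mul (.l 1) (.l 2)) (.l 3)) (.l 4), .mul (.mul (.mul (.l 1) (.l 2)) (.l 3)) (.l 4))] (.and (.eq (.mul (.l 41) (.l 41)) (.l 5)) (.eq (.mul (.mul (.mul (.l 40) (.l 41)) (.l 40)) (.l 41)) (.mul (.mul (.mul (.l 1) (.l 2)) (.l 3)) (.l 4))))))) = true := by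
  decide +kernel

theorem m11_v1 {G : Type*} [Group G] {γ : ℕ → G} (h : IsoW m11.gam γ) :
    ∃ x ∈ genW γ (m11.ws 0), x * (γ 1 * γ 2 * γ 3 * γ 4) = γ 1 * γ 2 * γ 3 * γ 4 * x ∧ x * x = γ 5 ∧ (∃ y ∈ genW γ (m11.ws 0), y * (γ 1 * γ 2 * γ 3 * γ 4) = γ 1 * γ 2 * γ 3 * γ 4 * y ∧ y * y = γ 5 ∧ x * y * x * y = γ 1 * γ 2 * γ 3 * γ 4) :=
  m11_ok.transfer h m11_v1_ev

theorem m11_v2_ev : m11.eval (.all 0 40 [(.mul (.mul (.mul (.l 1) (.l 2)) (.l 3)) (.l 4), .mul (.mul (.mul (.l 1) (.l 2)) (.l 3)) (.l 4))] (.imp (.eq (.mul (.l 40) (.l 40)) (.mul (.mul (.mul (.l 1) (.l 2)) (.l 3)) (.l 4))) (.all 0 41 [(.mul (.mul (.mul (.l 1) (.l 2)) (.l 3)) (.l 4), .mul (.mul (.mul (.l 1) (.l 2)) (.l 3)) (.l 4))] (.imp (.eq (.mul (.l 41) (.l 41)) (.mul (.mul (.mul (.l 1) (.l 2)) (.l 3)) (.l 4))) (.not (.eq (.mul (.mul (.mul (.l 40) (.l 41)) (.l 40)) (.l 41)) (.l 5))))))) = true := by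
  decide +kernel

theorem m11_v2 {G : Type*} [Group G] {γ : ℕ → G} (h : IsoW m11.gam γ) :
    ∀ x ∈ genW γ (m11.ws 0), x * (γ 1 * γ 2 * γ 3 * γ 4) = γ 1 * γ 2 * γ 3 * γ 4 * x → x * x = γ 1 * γ 2 * γ 3 * γ 4 → ∀ y ∈ genW γ (m11.ws 0), y * (γ 1 * γ 2 * γ 3 * γ 4) = γ 1 * γ 2 * γ 3 * γ 4 * y → y * y = γ 1 * γ 2 * γ 3 * γ 4 → x * y * x * y ≠ γ 5 :=
  m11_ok.transfer h m11_v2_ev

end Cfsg.Lib.L34A
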